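import Groth.Agent.H51.QC.CohOps
import Mathlib.CategoryTheory.Subobject.Basic
import Mathlib.RingTheory.Noetherian.Basic

/-!
# Ascending chains of quasi-coherent submodules of a coherent module stabilize
-/

set_option autoImplicit false
universe w v₁ u₁
open CategoryTheory Limits Opposite

namespace Groth.Agent.H51.QC

variable {C : Type u₁} [Category.{v₁} C] {J : GrothendieckTopology C}
  [J.HasSheafCompose (forget₂ CommRingCat.{w} RingCat.{w})] {R₀ : Sheaf J CommRingCat.{w}}
  [HasSheafify J AddCommGrpCat.{w}] [J.WEqualsLocallyBijective AddCommGrpCat.{w}]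
  {A : C → Prop} [HasPullbacks C]

/-- surjectivity on sections over an affine object propagates to affine objects over it -/
theorem surjective_over_of_surjective {N₁ N₂ : SheafOfModules.{w} (ringSh R₀)} (φ : N₁ ⟶ N₂)
    (h₂ : IsBCOn A N₂) {W E : C} (f : W ⟶ E) (hW : A W) (hE : A E)
    (hs : Function.Surjective (φ.val.app (op E)).hom) :
    Function.Surjective (φ.val.app (op W)).hom := by
  intro t
  have hbc := (isBCOn_iff_semiBC N₂).mp h₂ f hW hE
  let Rg := LinearMap.range (φ.val.app (op W)).hom
  refine SemiBC.mem_of_span _ hbc Rg (fun n : N₂.val.obj (op E) => n)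
    (Submodule.eq_top_iff'.mpr fun x => Submodule.subset_span ⟨x, rfl⟩) (fun n => ?_) t
  obtain ⟨n₁, rfl⟩ := hs n
  exact ⟨N₁.val.map f.op n₁, PresheafOfModules.naturality_apply φ.val f.op n₁⟩

/-- a morphism of sheaves of modules which is surjective on sections over a covering class of
objects is an epimorphism -/
theorem epi_of_surjective_on_cover {N1 N2 : SheafOfModules.{w} (ringSh R₀)}
    (π : N1 ⟶ N2) (B : C → Prop)
    (hB : ∀ U : C, Sieve.generate (fun (Y : C) (_ : Y ⟶ U) => B Y) ∈ J U)
    (h : ∀ Y : C, B Y → Function.Surjective (π.val.app (op Y)).hom) : Epi π := by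
  have hls : Sheaf.IsLocallySurjective ((SheafOfModules.toSheaf (ringSh R₀)).map π) := by
    constructor
    intro U t
    refine J.superset_covering ?_ (hB U)
    rw [Sieve.generate_le_iff]
    intro Y g hY
    obtain ⟨y, hy⟩ := h Y hY (N2.val.map g.op t)
    exact ⟨y, hy⟩
  have : Epi ((SheafOfModules.toSheaf (ringSh R₀)).map π) := Sheaf.epi_of_isLocallySurjective _
  exact (SheafOfModules.toSheaf (ringSh R₀)).epi_of_epi_map this

section ACC

variable [∀ X : C, (J.over X).HasSheafCompose (forget₂ CommRingCat.{w} RingCat.{w})]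
  [∀ X : C, HasSheafify (J.over X) AddCommGrpCat.{w}]
  [∀ X : C, (J.over X).WEqualsLocallyBijective AddCommGrpCat.{w}]

/-- **Ascending chain condition** for subobjects of a finitely presented module, with underlying
modules satisfying base change on affine objects, on a site covered by finitely many affine
objects with Noetherian rings. -/
theorem acc_subobjects (hAD : AffData J R₀.obj A)
    (hNoeth : ∀ E : C, A E → IsNoetherianRing (R₀.obj.obj (op E)))
    (M : SheafOfModules.{w} (ringSh R₀)) [M.IsFinitePresentation]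
    {n : ℕ} (E : Fin n → C) (hE : ∀ k, A (E k)) (hcov : J.CoversTop E)
    (N : ℕ →o Subobject M) (hq : ∀ i, IsBCOn A (Subobject.underlying.obj (N i))) :
    ∃ i₀, ∀ m, i₀ ≤ m → N m = N i₀ := by
  classical
  -- the chains of submodules of sections
  let Sk : ∀ k : Fin n, ℕ →o Submodule ((ringSh R₀).obj.obj (op (E k))) (M.val.obj (op (E k))) :=
    fun k =>
      { toFun := fun i => LinearMap.range ((N i).arrow.val.app (op (E k))).hom
        monotone' := by
          intro i j hij
          rintro _ ⟨x, rfl⟩
          refine ⟨((Subobject.ofLE (N i) (N j) (N.monotone hij)).val.app (op (E k))).hom x, ?_⟩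
          have := Subobject.ofLE_arrow (N.monotone hij)
          have h2 := congrArg (fun φ : Subobject.underlying.obj (N i) ⟶ M =>
            (φ.val.app (op (E k))).hom x) this
          exact h2 }
  have hnoe : ∀ k, IsNoetherian ((ringSh R₀).obj.obj (op (E k))) (M.val.obj (op (E k))) := by
    intro k
    have hM : Module.Finite ((ringSh R₀).obj.obj (op (E k))) (M.val.obj (op (E k))) :=
      finite_sections_of_isFinitePresentation hAD M (hE k)
    exact @isNoetherian_of_isNoetherianRing_of_finite _ _ _ _ _ (hNoeth (E k) (hE k)) hM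
  have hstab : ∀ k, ∃ nk, ∀ m, nk ≤ m → Sk k nk = Sk k m := fun k =>
    haveI := hnoe k
    monotone_stabilizes_iff_noetherian.mpr inferInstance (Sk k)
  choose nk hnk using hstab
  refine ⟨Finset.univ.sup nk, fun m hm => ?_⟩
  have hle : N (Finset.univ.sup nk) ≤ N m := N.monotone hm
  refine le_antisymm ?_ hle
  -- the inclusion is an epimorphism
  let j := Subobject.ofLE _ _ hle
  have hj : j ≫ (N m).arrow = (N (Finset.univ.sup nk)).arrow := Subobject.ofLE_arrow hle
  have hsurjE : ∀ k, Function.Surjective (j.val.app (op (E k))).hom := by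
    intro k y
    have hk : nk k ≤ Finset.univ.sup nk := Finset.le_sup (Finset.mem_univ k)
    have e1 : Sk k (Finset.univ.sup nk) = Sk k m :=
      (hnk k _ hk).symm.trans (hnk k m (hk.trans hm))
    have hy : ((N m).arrow.val.app (op (E k))).hom y ∈ Sk k m := ⟨y, rfl⟩
    rw [← e1] at hy
    obtain ⟨x, hx⟩ := hy
    refine ⟨x, ?_⟩
    have hmono : Mono ((SheafOfModules.evaluation (ringSh R₀) (op (E k))).map (N m).arrow) :=
      inferInstance
    have hinj : Function.Injective ((N m).arrow.val.app (op (E k))).hom :=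
      (ModuleCat.mono_iff_injective _).mp hmono
    apply hinj
    rw [← hx]
    have h2 := congrArg (fun φ : Subobject.underlying.obj (N (Finset.univ.sup nk)) ⟶ M =>
      (φ.val.app (op (E k))).hom x) hj
    exact h2
  have hepi : Epi j := by
    refine epi_of_surjective_on_cover j (fun Y => A Y ∧ ∃ k, Nonempty (Y ⟶ E k)) (fun W => ?_) ?_
    · refine J.transitive (hcov W) _ fun Y g hg => ?_
      obtain ⟨k, ⟨e⟩⟩ := hg
      refine J.superset_covering ?_ (hAD.coversTop Y)
      rw [Sieve.generate_le_iff]
      intro Z h hZ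
      exact ⟨Z, 𝟙 Z, h ≫ g, ⟨hZ, k, ⟨h ≫ e⟩⟩, Category.id_comp _⟩
    · rintro Y ⟨hY, k, ⟨e⟩⟩
      exact surjective_over_of_surjective j (hq m) e hY (hE k) (hsurjE k)
  haveI : IsIso j := isIso_of_mono_of_epi j
  exact Subobject.le_of_comm (inv j) (by rw [IsIso.inv_comp_eq, hj])

end ACC

end Groth.Agent.H51.QC
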