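import Mathlib.RingTheory.IsTensorProduct
import Mathlib.RingTheory.Flat.FaithfullyFlat.Basic
import Mathlib.RingTheory.Flat.IsBaseChange
import Mathlib.RingTheory.TensorProduct.IsBaseChangeRightExact

/-!
# Base change along a ring homomorphism for semilinear maps (instance-free packaging)
-/

set_option autoImplicit false
open TensorProduct

namespace Groth.Agent.H51.QC

variable {A B : Type*} [CommRing A] [CommRing B] (φ : A →+* B)
  {M N : Type*} [AddCommGroup M] [Module A M] [AddCommGroup N] [Module B N]

/-- view a semilinear map as a linear map over the source ring -/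
def semiToLin (h : M →ₛₗ[φ] N) :
    letI : Module A N := Module.compHom N φ
    M →ₗ[A] N :=
  letI : Module A N := Module.compHom N φ
  { toFun := h, map_add' := h.map_add, map_smul' := fun a m => h.map_smulₛₗ a m }

/-- `h : M →ₛₗ[φ] N` exhibits `N` as the base change `B ⊗[A] M`. -/
def SemiBC (h : M →ₛₗ[φ] N) : Prop :=
  letI := φ.toAlgebra
  letI : Module A N := Module.compHom N φ
  haveI : IsScalarTower A B N := IsScalarTower.of_algebraMap_smul fun _ _ => rfl
  IsBaseChange B (semiToLin φ h)


variable {φ}

theorem semiToLin_apply (h : M →ₛₗ[φ] N) (m : M) : semiToLin φ h m = h m := rfl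

theorem SemiBC.congr {φ' : A →+* B} (e : φ = φ') {h : M →ₛₗ[φ] N} {h' : M →ₛₗ[φ'] N}
    (hh : ∀ m, h m = h' m) : SemiBC φ h ↔ SemiBC φ' h' := by
  subst e
  have : h = h' := LinearMap.ext hh
  rw [this]

/-- a ring homomorphism as a semilinear map -/
def ringHomSL (φ : A →+* B) : A →ₛₗ[φ] B where
  toFun := φ
  map_add' := map_add φ
  map_smul' a x := by simp

@[simp] theorem ringHomSL_apply (φ : A →+* B) (a : A) : ringHomSL φ a = φ a := rfl

section Comp

variable {C : Type*} [CommRing C] {ψ : B →+* C} {O : Type*} [AddCommGroup O] [Module C O]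

/-- composition of semilinear maps, semilinear over the composite ring homomorphism -/
def semiComp (h : M →ₛₗ[φ] N) (g : N →ₛₗ[ψ] O) : M →ₛₗ[ψ.comp φ] O where
  toFun m := g (h m)
  map_add' x y := by rw [map_add, map_add]
  map_smul' a x := by rw [h.map_smulₛₗ, g.map_smulₛₗ]; rfl

@[simp] theorem semiComp_apply (h : M →ₛₗ[φ] N) (g : N →ₛₗ[ψ] O) (m : M) :
    semiComp h g m = g (h m) := rfl

/-- transitivity and cancellation of base change -/
theorem SemiBC.comp_iff {h : M →ₛₗ[φ] N} {g : N →ₛₗ[ψ] O} {k : M →ₛₗ[ψ.comp φ] O}
    (hk : ∀ m, k m = g (h m)) (hh : SemiBC φ h) : SemiBC (ψ.comp φ) k ↔ SemiBC ψ g := by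
  unfold SemiBC at hh ⊢
  letI := φ.toAlgebra
  letI := ψ.toAlgebra
  letI := (ψ.comp φ).toAlgebra
  haveI : IsScalarTower A B C := IsScalarTower.of_algebraMap_eq fun _ => rfl
  letI : Module A N := Module.compHom N φ
  haveI : IsScalarTower A B N := IsScalarTower.of_algebraMap_smul fun _ _ => rfl
  letI : Module B O := Module.compHom O ψ
  letI : Module A O := Module.compHom O (ψ.comp φ)
  haveI : IsScalarTower B C O := IsScalarTower.of_algebraMap_smul fun _ _ => rfl
  haveI : IsScalarTower A C O := IsScalarTower.of_algebraMap_smul fun _ _ => rfl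
  haveI : IsScalarTower A B O := IsScalarTower.of_algebraMap_smul fun a o => by
    change ψ (φ a) • o = ψ (φ a) • o
    rfl
  have e : semiToLin (ψ.comp φ) k = ((semiToLin ψ g).restrictScalars A) ∘ₗ (semiToLin φ h) := by
    ext m
    exact hk m
  rw [e]
  exact IsBaseChange.comp_iff hh

end Comp



section
variable {R S : Type*} [CommRing R] [CommRing S] [Algebra R S]
  {M N : Type*} [AddCommGroup M] [AddCommGroup N] [Module R M] [Module R N] [Module S N]
  [IsScalarTower R S N]

theorem isBaseChange_iff_bijective_lift (f : M →ₗ[R] N) :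
    IsBaseChange S f ↔ Function.Bijective (f.liftBaseChange S) := by
  unfold IsBaseChange IsTensorProduct
  have : ⇑(TensorProduct.lift (((Algebra.linearMap S <| Module.End S (M →ₗ[R] N)).flip f).restrictScalars R)) =
      ⇑(f.liftBaseChange S) := by
    ext x
    induction x using TensorProduct.induction_on with
    | zero => simp
    | tmul s m => simp
    | add x y hx hy => simp only [map_add, hx, hy]
  rw [this]
end

theorem isBaseChange_of_faithfullyFlat_of_comp
    {R S T : Type*} [CommRing R] [CommRing S] [CommRing T] [Algebra R S] [Algebra R T] [Algebra S T]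
    [IsScalarTower R S T] [Module.FaithfullyFlat S T]
    {M N O : Type*} [AddCommGroup M] [AddCommGroup N] [AddCommGroup O] [Module R M] [Module R N]
    [Module S N] [IsScalarTower R S N] [Module R O] [Module S O] [Module T O] [IsScalarTower S T O]
    [IsScalarTower R S O] [IsScalarTower R T O]
    (f : M →ₗ[R] N) (g : N →ₗ[S] O) (hg : IsBaseChange T g)
    (hc : IsBaseChange T ((g.restrictScalars R).comp f)) :
    IsBaseChange S f := by
  rw [isBaseChange_iff_bijective_lift] at hc ⊢
  rw [← Module.FaithfullyFlat.lTensor_bijective_iff_bijective S T]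
  have key : ∀ x, hg.equiv ((f.liftBaseChange S).lTensor T x) =
      ((g.restrictScalars R).comp f).liftBaseChange T
        (AlgebraTensorModule.cancelBaseChange R S T T M x) := by
    intro x
    induction x using TensorProduct.induction_on with
    | zero => simp
    | tmul t y =>
      induction y using TensorProduct.induction_on with
      | zero => simp
      | tmul s m =>
        simp only [LinearMap.lTensor_tmul, LinearMap.liftBaseChange_tmul, IsBaseChange.equiv_tmul,
          AlgebraTensorModule.cancelBaseChange_tmul, LinearMap.coe_comp, LinearMap.coe_restrictScalars,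
          Function.comp_apply, map_smul]
        rw [Algebra.smul_def s t, ← IsScalarTower.algebraMap_smul T s (g (f m)), smul_smul, mul_comm]
      | add y z hy hz =>
        simp only [tmul_add, map_add, hy, hz]
    | add x y hx hy => simp only [map_add, hx, hy]
  have : ⇑((f.liftBaseChange S).lTensor T) = hg.equiv.symm ∘
      ⇑(((g.restrictScalars R).comp f).liftBaseChange T) ∘
        ⇑(AlgebraTensorModule.cancelBaseChange R S T T M) := by
    ext x
    simp only [Function.comp_apply]
    rw [← key, LinearEquiv.symm_apply_apply]
  rw [this]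
  exact hg.equiv.symm.bijective.comp (hc.comp (LinearEquiv.bijective _))


theorem semiBC_ringHomSL {A B : Type*} [CommRing A] [CommRing B] (φ : A →+* B) :
    SemiBC φ (ringHomSL φ) := by
  unfold SemiBC
  letI := φ.toAlgebra
  rw [isBaseChange_iff_bijective_lift]
  have : ∀ z, (semiToLin φ (ringHomSL φ)).liftBaseChange B z =
      TensorProduct.AlgebraTensorModule.rid A B B z := by
    intro z
    induction z using TensorProduct.induction_on with
    | zero => simp
    | tmul b a =>
      rw [LinearMap.liftBaseChange_tmul, TensorProduct.AlgebraTensorModule.rid_tmul,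
        semiToLin_apply, ringHomSL_apply, smul_eq_mul, Algebra.smul_def a b, mul_comm]
      rfl
    | add x y hx hy => rw [map_add, map_add, hx, hy]
  have e : ⇑((semiToLin φ (ringHomSL φ)).liftBaseChange B) =
      ⇑(TensorProduct.AlgebraTensorModule.rid A B B) := funext this
  rw [e]
  exact LinearEquiv.bijective _

end Groth.Agent.H51.QC
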