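import Groth.Agent.H51.QC.FamAmitsur
import Groth.Agent.H51.QC.SemiBC

/-!
# Gluing along a finite faithfully flat family, in terms of semilinear base change maps
-/

set_option autoImplicit false
universe u
open TensorProduct

namespace Groth.Agent.H51.QC

/-- `C` is the pushout of `B ← A → B'` (via `α`, `β`) in commutative rings. -/
def RingPushout {A B B' C : Type*} [CommRing A] [CommRing B] [CommRing B'] [CommRing C]
    (φ : A →+* B) (φ' : A →+* B') (α : B →+* C) (β : B' →+* C) : Prop :=
  ∃ (w : α.comp φ = β.comp φ'),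
    letI := φ.toAlgebra
    letI := φ'.toAlgebra
    letI := (α.comp φ).toAlgebra
    Function.Bijective (Algebra.TensorProduct.productMap
      ({ α with commutes' := fun _ => rfl } : B →ₐ[A] C)
      ({ β with commutes' := fun a => (RingHom.congr_fun w a).symm } : B' →ₐ[A] C))

section

variable {A : Type u} [CommRing A] {ι : Type} [Fintype ι] [DecidableEq ι]
  {B : ι → Type u} [∀ k, CommRing (B k)] (φ : ∀ k, A →+* B k)
  {Cc : ι → ι → Type u} [∀ k l, CommRing (Cc k l)]
  (α : ∀ k l, B k →+* Cc k l) (β : ∀ k l, B l →+* Cc k l)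
  {N : Type u} [AddCommGroup N] [Module A N]
  {Nk : ι → Type u} [∀ k, AddCommGroup (Nk k)] [∀ k, Module (B k) (Nk k)]
  (h : ∀ k, N →ₛₗ[φ k] Nk k)
  {Nkl : ι → ι → Type u} [∀ k l, AddCommGroup (Nkl k l)] [∀ k l, Module (Cc k l) (Nkl k l)]
  (p : ∀ k l, Nk k →ₛₗ[α k l] Nkl k l) (q : ∀ k l, Nk l →ₛₗ[β k l] Nkl k l)
  (r : ∀ k l, N →ₛₗ[(α k l).comp (φ k)] Nkl k l)

include φ in
theorem famGlue_sep (hflat : ∀ k, (φ k).Flat)
    (hsurj : ∀ pp : PrimeSpectrum A, ∃ (k : ι) (qq : PrimeSpectrum (B k)),
      PrimeSpectrum.comap (φ k) qq = pp)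
    (hh : ∀ k, SemiBC (φ k) (h k)) (n : N) (hn : ∀ k, h k n = 0) : n = 0 := by
  letI algB : ∀ k, Algebra A (B k) := fun k => (φ k).toAlgebra
  letI modNk : ∀ k, Module A (Nk k) := fun k => Module.compHom (Nk k) (φ k)
  haveI : ∀ k, IsScalarTower A (B k) (Nk k) := fun k =>
    IsScalarTower.of_algebraMap_smul fun _ _ => rfl
  haveI : ∀ k, Module.Flat A (B k) := hflat
  have hT : ∀ k, IsBaseChange (B k) (semiToLin (φ k) (h k)) := hh
  refine tfa_sep B N hsurj n fun k => ?_
  apply (hT k).equiv.injective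
  rw [IsBaseChange.equiv_tmul, map_zero, one_smul]
  exact hn k

include φ α β in
theorem famGlue (hflat : ∀ k, (φ k).Flat)
    (hsurj : ∀ pp : PrimeSpectrum A, ∃ (k : ι) (qq : PrimeSpectrum (B k)),
      PrimeSpectrum.comap (φ k) qq = pp)
    (hpo : ∀ k l, RingPushout (φ k) (φ l) (α k l) (β k l))
    (hh : ∀ k, SemiBC (φ k) (h k))
    (hr : ∀ k l, SemiBC ((α k l).comp (φ k)) (r k l))
    (hrp : ∀ k l n, r k l n = p k l (h k n))
    (hrq : ∀ k l n, r k l n = q k l (h l n))
    (x : ∀ k, Nk k) (hx : ∀ k l, p k l (x k) = q k l (x l)) :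
    ∃ n : N, ∀ k, h k n = x k := by
  letI algB : ∀ k, Algebra A (B k) := fun k => (φ k).toAlgebra
  letI algC : ∀ k l, Algebra A (Cc k l) := fun k l => ((α k l).comp (φ k)).toAlgebra
  letI modNk : ∀ k, Module A (Nk k) := fun k => Module.compHom (Nk k) (φ k)
  haveI : ∀ k, IsScalarTower A (B k) (Nk k) := fun k =>
    IsScalarTower.of_algebraMap_smul fun _ _ => rfl
  letI modNkl : ∀ k l, Module A (Nkl k l) := fun k l =>
    Module.compHom (Nkl k l) ((α k l).comp (φ k))
  haveI : ∀ k l, IsScalarTower A (Cc k l) (Nkl k l) := fun k l =>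
    IsScalarTower.of_algebraMap_smul fun _ _ => rfl
  haveI : ∀ k, Module.Flat A (B k) := hflat
  have hT : ∀ k, IsBaseChange (B k) (semiToLin (φ k) (h k)) := hh
  have hR : ∀ k l, IsBaseChange (Cc k l) (semiToLin ((α k l).comp (φ k)) (r k l)) := hr
  -- the algebra maps
  let αA : ∀ k l, B k →ₐ[A] Cc k l := fun k l => { α k l with commutes' := fun _ => rfl }
  let βA : ∀ k l, B l →ₐ[A] Cc k l := fun k l =>
    { β k l with commutes' := fun a => (RingHom.congr_fun (hpo k l).1 a).symm }
  have hbij : ∀ k l, Function.Bijective (Algebra.TensorProduct.productMap (αA k l) (βA k l)) :=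
    fun k l => (hpo k l).2
  let e : ∀ k l, (B k ⊗[A] B l) ≃ₗ[A] Cc k l := fun k l =>
    LinearEquiv.ofBijective (Algebra.TensorProduct.productMap (αA k l) (βA k l)).toLinearMap
      (hbij k l)
  let Φ : ∀ k l, (B k ⊗[A] B l) ⊗[A] N →ₗ[A] Nkl k l := fun k l =>
    ((hR k l).equiv.toLinearMap.restrictScalars A) ∘ₗ (LinearEquiv.rTensor N (e k l)).toLinearMap
  have hΦinj : ∀ k l, Function.Injective (Φ k l) := fun k l =>
    (hR k l).equiv.injective.comp (LinearEquiv.rTensor N (e k l)).injective
  have hΦl : ∀ k l (y : B k ⊗[A] N), Φ k l (famInl B N k l y) = p k l ((hT k).equiv y) := by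
    intro k l y
    induction y using TensorProduct.induction_on with
    | zero => simp
    | tmul b n =>
      simp only [Φ, famInl, LinearMap.rTensor_tmul, AlgHom.toLinearMap_apply,
        Algebra.TensorProduct.includeLeft_apply, LinearMap.coe_comp, LinearMap.coe_restrictScalars,
        LinearEquiv.coe_coe, Function.comp_apply, LinearEquiv.rTensor_tmul, IsBaseChange.equiv_tmul,
        e, LinearEquiv.ofBijective_apply, Algebra.TensorProduct.productMap_apply_tmul, map_one, mul_one]
      rw [semiToLin_apply, semiToLin_apply, hrp, (p k l).map_smulₛₗ]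
      rfl
    | add y y' hy hy' => simp only [map_add, hy, hy']
  have hΦr : ∀ k l (y : B l ⊗[A] N), Φ k l (famInr B N k l y) = q k l ((hT l).equiv y) := by
    intro k l y
    induction y using TensorProduct.induction_on with
    | zero => simp
    | tmul b n =>
      simp only [Φ, famInr, LinearMap.rTensor_tmul, AlgHom.toLinearMap_apply,
        Algebra.TensorProduct.includeRight_apply, LinearMap.coe_comp, LinearMap.coe_restrictScalars,
        LinearEquiv.coe_coe, Function.comp_apply, LinearEquiv.rTensor_tmul, IsBaseChange.equiv_tmul,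
        e, LinearEquiv.ofBijective_apply, Algebra.TensorProduct.productMap_apply_tmul, map_one, one_mul]
      rw [semiToLin_apply, semiToLin_apply, hrq, (q k l).map_smulₛₗ]
      rfl
    | add y y' hy hy' => simp only [map_add, hy, hy']
  obtain ⟨n, hn⟩ := tfa_glue B N hsurj (fun k => (hT k).equiv.symm (x k)) (fun k l => by
    apply hΦinj k l
    rw [hΦl, hΦr, LinearEquiv.apply_symm_apply, LinearEquiv.apply_symm_apply, hx])
  refine ⟨n, fun k => ?_⟩
  have := congrArg (hT k).equiv (hn k)
  rw [LinearEquiv.apply_symm_apply, IsBaseChange.equiv_tmul, one_smul] at this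
  exact this.symm

end

end Groth.Agent.H51.QC
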