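import Mathlib.CategoryTheory.Sites.Sheaf
import Mathlib.CategoryTheory.Sites.IsSheafFor
import Mathlib.CategoryTheory.Sites.LocallyBijective
import Mathlib.Algebra.Category.Grp.ForgetCorepresentable

/-!
# A locally bijective map from a presheaf with gluing on a basis to a sheaf is bijective on the basis
-/

set_option autoImplicit false
universe w v₁ u₁
open CategoryTheory Opposite

namespace Groth.Agent.H51.QC

variable {C : Type u₁} [Category.{v₁} C] (J : GrothendieckTopology C) (A : C → Prop)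

/-- The gluing property of a presheaf of types `P` at an object `V`, relative to a class `A` of
objects: every covering sieve of `V` contains a family, with chosen "overlaps" in `A`, for which
`P` is separated and along which sections compatible on the chosen overlaps glue. -/
def GlueAt (P : Cᵒᵖ ⥤ Type w) (V : C) : Prop :=
  ∀ S ∈ J V, ∃ (ι : Type) (U : ι → C) (g : ∀ k, U k ⟶ V) (W : ι → ι → C)
    (a : ∀ k l, W k l ⟶ U k) (b : ∀ k l, W k l ⟶ U l),
    (∀ k, S (g k)) ∧ (∀ k l, A (W k l)) ∧ (∀ k l, a k l ≫ g k = b k l ≫ g l) ∧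
    Sieve.ofArrows U g ∈ J V ∧
    (∀ s s' : P.obj (op V), (∀ k, P.map (g k).op s = P.map (g k).op s') → s = s') ∧
    (∀ x : ∀ k, P.obj (op (U k)),
      (∀ k l, P.map (a k l).op (x k) = P.map (b k l).op (x l)) →
        ∃ s : P.obj (op V), ∀ k, P.map (g k).op s = x k)

variable {J A}

theorem bijective_of_glueAt {P F : Cᵒᵖ ⥤ Type w} (hF : Presieve.IsSheaf J F) (η : P ⟶ F)
    (hinj : ∀ (V : C) (s s' : P.obj (op V)), η.app _ s = η.app _ s' →
      ∃ S ∈ J V, ∀ ⦃W : C⦄ (g : W ⟶ V), S g → P.map g.op s = P.map g.op s')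
    (hsurj : ∀ (V : C) (t : F.obj (op V)),
      ∃ S ∈ J V, ∀ ⦃W : C⦄ (g : W ⟶ V), S g → ∃ s, η.app _ s = F.map g.op t)
    (hglue : ∀ V, A V → GlueAt J A P V) (V : C) (hV : A V) :
    Function.Bijective (η.app (op V)) := by
  have hnat : ∀ {X Y : C} (f : X ⟶ Y) (s : P.obj (op Y)),
      η.app _ (P.map f.op s) = F.map f.op (η.app _ s) := fun f s =>
    FunctorToTypes.naturality η f.op s
  have hI : ∀ V, A V → Function.Injective (η.app (op V)) := by
    intro V hV s s' hss
    obtain ⟨S, hS, hS'⟩ := hinj V s s' hss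
    obtain ⟨ι, U, g, W, a, b, hgS, -, -, -, hsep, -⟩ := hglue V hV S hS
    exact hsep s s' fun k => hS' (g k) (hgS k)
  refine ⟨hI V hV, fun t => ?_⟩
  obtain ⟨S, hS, hS'⟩ := hsurj V t
  obtain ⟨ι, U, g, W, a, b, hgS, hWA, hab, hcov, -, hgl⟩ := hglue V hV S hS
  choose x hx using fun k => hS' (g k) (hgS k)
  obtain ⟨s, hs⟩ := hgl x fun k l => by
    apply hI _ (hWA k l)
    rw [hnat, hnat, hx, hx, ← FunctorToTypes.map_comp_apply, ← FunctorToTypes.map_comp_apply,
      ← op_comp, ← op_comp, hab]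
  refine ⟨s, ?_⟩
  refine (hF _ hcov).isSeparatedFor.ext fun Y f hf => ?_
  obtain ⟨Z, c, _, ⟨k⟩, rfl⟩ := hf
  rw [op_comp, FunctorToTypes.map_comp_apply, FunctorToTypes.map_comp_apply, ← hnat, hs, hx]

end Groth.Agent.H51.QC

namespace Groth.Agent.H51.QC

open CategoryTheory Opposite

variable {C : Type u₁} [Category.{v₁} C] {J : GrothendieckTopology C} {A : C → Prop}

/-- Version for presheaves of abelian groups and Mathlib's local injectivity/surjectivity. -/
theorem bijective_of_glueAt_ab {P F : Cᵒᵖ ⥤ AddCommGrpCat.{w}} (hF : Presheaf.IsSheaf J F)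
    (η : P ⟶ F) [Presheaf.IsLocallyInjective J η] [Presheaf.IsLocallySurjective J η]
    (hglue : ∀ V, A V → GlueAt J A (P ⋙ forget AddCommGrpCat) V) (V : C) (hV : A V) :
    Function.Bijective (η.app (op V)) := by
  have hF' : Presieve.IsSheaf J (F ⋙ forget AddCommGrpCat) :=
    Presieve.isSheaf_iso J (Functor.isoWhiskerLeft F AddCommGrpCat.coyonedaObjIsoForget)
      (hF (AddCommGrpCat.of (ULift.{w} ℤ)))
  exact bijective_of_glueAt (J := J) (A := A) hF' (Functor.whiskerRight η (forget AddCommGrpCat))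
    (fun V s s' h => ⟨Presheaf.equalizerSieve (F := P) (X := op V) s s',
      Presheaf.equalizerSieve_mem J η (X := op V) s s' h, fun W g hg => hg⟩)
    (fun V t => ⟨Presheaf.imageSieve η (U := V) t,
      Presheaf.imageSieve_mem J η (U := op V) t, fun W g hg => hg⟩)
    hglue V hV

end Groth.Agent.H51.QC
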