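import Groth.Agent.H51.QC.BCBridge
import Groth.Agent.H51.QC.FamGlue
import Groth.Agent.H51.QC.LemmaD
import Mathlib.CategoryTheory.Limits.Shapes.Pullback.HasPullback

/-!
# Sites with a basis of "affine" objects: the data, and gluing for presheaves of modules
satisfying base change on the basis
-/

set_option autoImplicit false
universe w v₁ u₁
open CategoryTheory Limits Opposite

namespace Groth.Agent.H51.QC

variable {C : Type u₁} [Category.{v₁} C] (J : GrothendieckTopology C)
  (R₀ : Cᵒᵖ ⥤ CommRingCat.{w}) (A : C → Prop)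

/-- The hypotheses on a site with a presheaf of commutative rings and a class `A` of "affine"
objects which make the theory of quasi-coherent modules work. -/
structure AffData [HasPullbacks C] : Prop where
  pullback_mem : ∀ {P U U' V : C} {a : P ⟶ U} {b : P ⟶ U'} {f : U ⟶ V} {g : U' ⟶ V},
    IsPullback a b f g → A U → A U' → A V → A P
  flat : ∀ {U V : C} (f : U ⟶ V), A U → A V → (R₀.map f.op).hom.Flat
  pushout : ∀ {P U U' V : C} {a : P ⟶ U} {b : P ⟶ U'} {f : U ⟶ V} {g : U' ⟶ V},
    IsPullback a b f g → A U → A U' → A V →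
      RingPushout (R₀.map f.op).hom (R₀.map g.op).hom (R₀.map a.op).hom (R₀.map b.op).hom
  cover : ∀ {V : C} (S : Sieve V), A V → S ∈ J V →
    ∃ (n : ℕ) (U : Fin n → C) (g : ∀ k, U k ⟶ V),
      (∀ k, A (U k)) ∧ (∀ k, S (g k)) ∧ Sieve.ofArrows U g ∈ J V
  surj : ∀ {V : C} {n : ℕ} (U : Fin n → C) (g : ∀ k, U k ⟶ V), A V → (∀ k, A (U k)) →
    Sieve.ofArrows U g ∈ J V → ∀ p : PrimeSpectrum (R₀.obj (op V)),
      ∃ (k : Fin n) (q : PrimeSpectrum (R₀.obj (op (U k)))),
        PrimeSpectrum.comap (R₀.map (g k).op).hom q = p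
  coversTop : ∀ X : C, Sieve.generate (fun (Y : C) (_ : Y ⟶ X) => A Y) ∈ J X

variable {J R₀ A}

/-- A presheaf of modules satisfying base change between objects of `A` has the gluing property
on `A`. -/
theorem glueAt_of_isBC [HasPullbacks C] (hAD : AffData J R₀ A)
    (Q : PresheafOfModules.{w} (ringPre R₀))
    (hQ : ∀ {U V : C} (f : U ⟶ V), A U → A V → IsBCAt R₀ Q f.op) (V : C) (hV : A V) :
    GlueAt J A (Q.presheaf ⋙ forget AddCommGrpCat) V := by
  intro S hS
  obtain ⟨n, U, g, hU, hgS, hcov⟩ := hAD.cover S hV hS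
  have hW : ∀ k l, A (pullback (g k) (g l)) := fun k l =>
    hAD.pullback_mem (IsPullback.of_hasPullback _ _) (hU k) (hU l) hV
  have hh : ∀ k, SemiBC (R₀.map (g k).op).hom (resSL R₀ Q (g k).op) := fun k =>
    (isBCAt_iff_semiBC R₀ Q _).mp (hQ (g k) (hU k) hV)
  have hflat : ∀ k, (R₀.map (g k).op).hom.Flat := fun k => hAD.flat (g k) (hU k) hV
  have hsurj := hAD.surj U g hV hU hcov
  have key1 : ∀ (t t' : Q.obj (op V)), (∀ k, Q.map (g k).op t = Q.map (g k).op t') → t = t' := by
    intro t t' hss
    have := famGlue_sep (fun k => (R₀.map (g k).op).hom) (fun k => resSL R₀ Q (g k).op)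
      hflat hsurj hh (t - t') (fun k => by
        rw [map_sub, sub_eq_zero]
        exact hss k)
    exact sub_eq_zero.mp this
  have key2 : ∀ (x : ∀ k, Q.obj (op (U k))),
      (∀ k l, Q.map (pullback.fst (g k) (g l)).op (x k) = Q.map (pullback.snd (g k) (g l)).op (x l)) →
        ∃ t : Q.obj (op V), ∀ k, Q.map (g k).op t = x k := by
    intro x hx
    have hr : ∀ k l, SemiBC ((R₀.map (pullback.fst (g k) (g l)).op).hom.comp (R₀.map (g k).op).hom)
        (semiComp (resSL R₀ Q (g k).op) (resSL R₀ Q (pullback.fst (g k) (g l)).op)) := by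
      intro k l
      have h1 := (isBCAt_iff_semiBC R₀ Q _).mp
        (hQ (pullback.fst (g k) (g l) ≫ g k) (hW k l) hV)
      refine (SemiBC.congr ?_ ?_).mp h1
      · rw [op_comp, R₀.map_comp]
        rfl
      · intro m
        rw [resSL_apply, semiComp_apply, resSL_apply, resSL_apply]
        exact PresheafOfModules.map_comp_apply Q _ _ m
    exact famGlue (fun k => (R₀.map (g k).op).hom)
      (fun k l => (R₀.map (pullback.fst (g k) (g l)).op).hom)
      (fun k l => (R₀.map (pullback.snd (g k) (g l)).op).hom)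
      (fun k => resSL R₀ Q (g k).op)
      (fun k l => resSL R₀ Q (pullback.fst (g k) (g l)).op)
      (fun k l => resSL R₀ Q (pullback.snd (g k) (g l)).op)
      (fun k l => semiComp (resSL R₀ Q (g k).op) (resSL R₀ Q (pullback.fst (g k) (g l)).op))
      hflat hsurj
      (fun k l => hAD.pushout (IsPullback.of_hasPullback _ _) (hU k) (hU l) hV)
      hh hr (fun k l m => rfl)
      (fun k l m => by
        rw [semiComp_apply, resSL_apply, resSL_apply, resSL_apply, resSL_apply,
          ← PresheafOfModules.map_comp_apply, ← PresheafOfModules.map_comp_apply,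
          ← op_comp, ← op_comp, pullback.condition])
      x hx
  exact ⟨Fin n, U, g, fun k l => pullback (g k) (g l), fun k l => pullback.fst _ _,
    fun k l => pullback.snd _ _, hgS, hW, fun k l => pullback.condition, hcov, key1, key2⟩

end Groth.Agent.H51.QC
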