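import Groth.Agent.H51.QC.BCNat
import Groth.Agent.H51.QC.SemiBC

/-!
# `IsBCAt` (categorical) versus `SemiBC` (algebraic)
-/

set_option autoImplicit false
universe w v₁ u₁
open CategoryTheory Limits TensorProduct

namespace Groth.Agent.H51.QC

variable {C : Type u₁} [Category.{v₁} C] (R₀ : Cᵒᵖ ⥤ CommRingCat.{w})

/-- the restriction map of a presheaf of modules as a semilinear map over the commutative rings -/
noncomputable def resSL (P : PresheafOfModules.{w} (ringPre R₀)) {X Y : Cᵒᵖ} (f : X ⟶ Y) :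
    P.obj X →ₛₗ[(R₀.map f).hom] P.obj Y :=
  P.restrictₛₗ f

theorem resSL_apply (P : PresheafOfModules.{w} (ringPre R₀)) {X Y : Cᵒᵖ} (f : X ⟶ Y) (m : P.obj X) :
    resSL R₀ P f m = P.map f m := rfl

theorem isBCAt_iff_semiBC (P : PresheafOfModules.{w} (ringPre R₀)) {X Y : Cᵒᵖ} (f : X ⟶ Y) :
    IsBCAt R₀ P f ↔ SemiBC (R₀.map f).hom (resSL R₀ P f) := by
  unfold IsBCAt SemiBC
  rw [ConcreteCategory.isIso_iff_bijective]
  letI := (R₀.map f).hom.toAlgebra
  letI : Module (R₀.obj X) (P.obj Y) := Module.compHom _ (R₀.map f).hom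
  haveI : IsScalarTower (R₀.obj X) (R₀.obj Y) (P.obj Y) :=
    IsScalarTower.of_algebraMap_smul fun _ _ => rfl
  rw [isBaseChange_iff_bijective_lift]
  have : ∀ z, ((bcNat R₀ f).app P).hom z =
      (semiToLin (R₀.map f).hom (resSL R₀ P f)).liftBaseChange (R₀.obj Y) z := by
    intro z
    refine TensorProduct.induction_on (motive := fun z => ((bcNat R₀ f).app P).hom z =
      (semiToLin (R₀.map f).hom (resSL R₀ P f)).liftBaseChange (R₀.obj Y) z) z ?_ ?_ ?_
    · exact (map_zero ((bcNat R₀ f).app P).hom).trans (map_zero _).symm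
    · intro s m
      exact bcNat_app_tmul R₀ P f s m
    · intro x y hx hy
      refine (map_add ((bcNat R₀ f).app P).hom x y).trans ?_
      refine Eq.trans ?_ (map_add ((semiToLin (R₀.map f).hom (resSL R₀ P f)).liftBaseChange
        (R₀.obj Y)) x y).symm
      exact congrArg₂ (· + ·) hx hy
  constructor
  · intro h
    refine ⟨fun a b hab => h.1 ((this a).trans (hab.trans (this b).symm)), fun y => ?_⟩
    obtain ⟨z, hz⟩ := h.2 y
    exact ⟨z, (this z).symm.trans hz⟩
  · intro h
    refine ⟨fun a b hab => h.1 ((this a).symm.trans (hab.trans (this b))), fun y => ?_⟩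
    obtain ⟨z, hz⟩ := h.2 y
    exact ⟨z, (this z).trans hz⟩

end Groth.Agent.H51.QC
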