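import Mathlib.Algebra.Category.ModuleCat.Presheaf.Colimits
import Mathlib.Algebra.Category.ModuleCat.ChangeOfRings
import Mathlib.CategoryTheory.Adjunction.Limits

/-!
# The base change natural transformation for presheaves of modules

For a presheaf of commutative rings `R₀` and `f : X ⟶ Y` in `Cᵒᵖ`, the natural transformation
`R₀(Y) ⊗_{R₀(X)} P(X) ⟶ P(Y)` of functors `PresheafOfModules ⥤ ModuleCat R₀(Y)`.
-/

set_option autoImplicit false
universe w v₁ u₁
open CategoryTheory Limits

namespace Groth.Agent.H51.QC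

variable {C : Type u₁} [Category.{v₁} C] (R₀ : Cᵒᵖ ⥤ CommRingCat.{w})

/-- the underlying presheaf of (not necessarily commutative) rings -/
abbrev ringPre : Cᵒᵖ ⥤ RingCat.{w} := R₀ ⋙ forget₂ CommRingCat RingCat

/-- The base change map `R₀(Y) ⊗_{R₀(X)} P(X) ⟶ P(Y)`, natural in the presheaf of modules `P`. -/
noncomputable def bcNat {X Y : Cᵒᵖ} (f : X ⟶ Y) :
    PresheafOfModules.evaluation.{w} (ringPre R₀) X ⋙
        ModuleCat.extendScalars.{w, w, w} (R := R₀.obj X) (S := R₀.obj Y) (R₀.map f).hom ⟶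
      PresheafOfModules.evaluation.{w} (ringPre R₀) Y where
  app P := ((ModuleCat.extendRestrictScalarsAdj.{w, w, w} (R := R₀.obj X) (S := R₀.obj Y)
    (R₀.map f).hom).homEquiv _ _).symm (P.map f)
  naturality P Q g := by
    dsimp only [Functor.comp_obj, Functor.comp_map, PresheafOfModules.evaluation_obj,
      PresheafOfModules.evaluation_map]
    rw [← Adjunction.homEquiv_naturality_left_symm, ← Adjunction.homEquiv_naturality_right_symm]
    congr 1
    exact (g.naturality f).symm

end Groth.Agent.H51.QC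

namespace Groth.Agent.H51.QC

section General

variable {𝒞 : Type*} [Category 𝒞] {𝒟 : Type*} [Category 𝒟] {K : Type*} [Category K]

/-- A natural transformation between functors preserving a colimit is an isomorphism at the
colimit as soon as it is one at every object of the diagram. -/
theorem isIso_app_of_isColimit {F G : 𝒞 ⥤ 𝒟} (α : F ⟶ G) {D : K ⥤ 𝒞} {c : Cocone D}
    (hc : IsColimit c) [PreservesColimit D F] [PreservesColimit D G]
    (h : ∀ k, IsIso (α.app (D.obj k))) : IsIso (α.app c.pt) := by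
  have hF := isColimitOfPreserves F hc
  have hG := isColimitOfPreserves G hc
  let e : D ⋙ F ≅ D ⋙ G := NatIso.ofComponents (fun k => asIso (α.app (D.obj k)))
    (fun f => by simp)
  have : α.app c.pt = (IsColimit.coconePointsIsoOfNatIso hF hG e).hom := by
    apply hF.hom_ext
    intro k
    rw [IsColimit.comp_coconePointsIsoOfNatIso_hom]
    simp [e]
  rw [this]
  infer_instance

end General

variable {C : Type u₁} [Category.{v₁} C] (R₀ : Cᵒᵖ ⥤ CommRingCat.{w})

/-- The presheaf of modules `P` satisfies base change along `f`. -/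
def IsBCAt (P : PresheafOfModules.{w} (ringPre R₀)) {X Y : Cᵒᵖ} (f : X ⟶ Y) : Prop :=
  IsIso ((bcNat R₀ f).app P)

theorem isBCAt_of_isColimit {K : Type*} [Category K] {D : K ⥤ PresheafOfModules.{w} (ringPre R₀)}
    {c : Cocone D} (hc : IsColimit c) [HasColimitsOfShape K AddCommGrpCat.{w}]
    {X Y : Cᵒᵖ} (f : X ⟶ Y)
    (h : ∀ k, IsBCAt R₀ (D.obj k) f) : IsBCAt R₀ c.pt f := by
  unfold IsBCAt at h ⊢
  haveI : PreservesColimitsOfSize.{w, w} (ModuleCat.extendScalars.{w, w, w} (R := R₀.obj X) (S := R₀.obj Y) (R₀.map f).hom) :=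
    (ModuleCat.extendRestrictScalarsAdj.{w, w, w} (R := R₀.obj X) (S := R₀.obj Y)
      (R₀.map f).hom).leftAdjoint_preservesColimits
  haveI : PreservesColimit D (PresheafOfModules.evaluation.{w} (ringPre R₀) X) := inferInstance
  haveI : PreservesColimit D (PresheafOfModules.evaluation.{w} (ringPre R₀) Y) := inferInstance
  exact isIso_app_of_isColimit (bcNat R₀ f) hc h



/-- pure tensors in the extension of scalars -/
def etmul (P : PresheafOfModules.{w} (ringPre R₀)) {X Y : Cᵒᵖ} (f : X ⟶ Y)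
    (s : R₀.obj Y) (m : P.obj X) :
    (ModuleCat.extendScalars.{w, w, w} (R := R₀.obj X) (S := R₀.obj Y) (R₀.map f).hom).obj (P.obj X) :=
  @TensorProduct.tmul (R₀.obj X) _ (R₀.obj Y) (P.obj X) _ _ (Module.compHom _ (R₀.map f).hom) _ s m

theorem smul_etmul (P : PresheafOfModules.{w} (ringPre R₀)) {X Y : Cᵒᵖ} (f : X ⟶ Y)
    (s s' : R₀.obj Y) (m : P.obj X) : s • etmul R₀ P f s' m = etmul R₀ P f (s * s') m := rfl

theorem bcNat_app_one_tmul (P : PresheafOfModules.{w} (ringPre R₀)) {X Y : Cᵒᵖ} (f : X ⟶ Y)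
    (m : P.obj X) :
    ((bcNat R₀ f).app P).hom (etmul R₀ P f 1 m) = P.restrictₛₗ f m := by
  have h1 : ((ModuleCat.extendRestrictScalarsAdj.{w, w, w} (R := R₀.obj X) (S := R₀.obj Y)
    (R₀.map f).hom).homEquiv _ _) ((bcNat R₀ f).app P) = P.map f := Equiv.apply_symm_apply _ _
  have h2 := congrArg (fun g => g.hom m) h1
  exact h2

theorem bcNat_app_tmul (P : PresheafOfModules.{w} (ringPre R₀)) {X Y : Cᵒᵖ} (f : X ⟶ Y)
    (s : R₀.obj Y) (m : P.obj X) :
    ((bcNat R₀ f).app P).hom (etmul R₀ P f s m) = (s • (P.restrictₛₗ f m) : P.obj Y) := by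
  rw [← bcNat_app_one_tmul]
  have : etmul R₀ P f s m = s • etmul R₀ P f 1 m := by rw [smul_etmul, mul_one]
  rw [this]
  exact map_smul ((bcNat R₀ f).app P).hom s _
end Groth.Agent.H51.QC
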