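import Groth.Agent.H51.QC.FinPres

/-!
# Coherence on a "locally Noetherian" site with affine data: characterization and permanence
-/

set_option autoImplicit false
universe w v₁ u₁
open CategoryTheory Limits Opposite

namespace Groth.Agent.H51.QC

variable {C : Type u₁} [Category.{v₁} C] {J : GrothendieckTopology C}
  [J.HasSheafCompose (forget₂ CommRingCat.{w} RingCat.{w})] {R₀ : Sheaf J CommRingCat.{w}}
  [HasSheafify J AddCommGrpCat.{w}] [J.WEqualsLocallyBijective AddCommGrpCat.{w}]
  [∀ X : C, (J.over X).HasSheafCompose (forget₂ CommRingCat.{w} RingCat.{w})]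
  [∀ X : C, HasSheafify (J.over X) AddCommGrpCat.{w}]
  [∀ X : C, (J.over X).WEqualsLocallyBijective AddCommGrpCat.{w}]
  {A : C → Prop} [HasPullbacks C]

/-- sections of a finitely presented module over affine objects are finite modules -/
theorem finite_sections_of_isFinitePresentation (hAD : AffData J R₀.obj A)
    (M : SheafOfModules.{w} (ringSh R₀)) [M.IsFinitePresentation] {E : C} (hE : A E) :
    Module.Finite (R₀.obj.obj (op E)) (M.val.obj (op E)) :=
  finite_sections_of_isFiniteType hAD M (isBCOn_of_isQuasicoherent hAD M) hE

variable (hAD : AffData J R₀.obj A)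
  (hNoeth : ∀ E : C, A E → IsNoetherianRing (R₀.obj.obj (op E)))

include hAD hNoeth

/-- quasi-coherent of finite type implies finitely presented -/
theorem isFinitePresentation_of_isQuasicoherent_of_isFiniteType
    (M : SheafOfModules.{w} (ringSh R₀)) [M.IsQuasicoherent] [M.IsFiniteType] :
    M.IsFinitePresentation :=
  isFinitePresentation_of_finite_sections hAD M (isBCOn_of_isQuasicoherent hAD M) hNoeth
    (fun _ hE => finite_sections_of_isFiniteType hAD M (isBCOn_of_isQuasicoherent hAD M) hE)

/-- a quasi-coherent submodule of a finitely presented module is finitely presented -/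
theorem isFinitePresentation_of_mono {M N : SheafOfModules.{w} (ringSh R₀)}
    [M.IsFinitePresentation] (ι : N ⟶ M) [Mono ι] (hN : IsBCOn A N) :
    N.IsFinitePresentation := by
  refine isFinitePresentation_of_finite_sections hAD N hN hNoeth fun E hE => ?_
  have hM : Module.Finite ((ringSh R₀).obj.obj (op E)) (M.val.obj (op E)) :=
    finite_sections_of_isFinitePresentation hAD M hE
  have hnoe : IsNoetherian ((ringSh R₀).obj.obj (op E)) (M.val.obj (op E)) :=
    @isNoetherian_of_isNoetherianRing_of_finite _ _ _ _ _ (hNoeth E hE) hM
  have hmono : Mono ((SheafOfModules.evaluation (ringSh R₀) (op E)).map ι) := inferInstance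
  have hinj : Function.Injective (ι.val.app (op E)).hom := (ModuleCat.mono_iff_injective _).mp hmono
  have : Module.Finite ((ringSh R₀).obj.obj (op E)) (N.val.obj (op E)) :=
    haveI := hnoe
    Module.Finite.of_injective (ι.val.app (op E)).hom hinj
  exact this

/-- a quasi-coherent quotient of a finitely presented module is finitely presented -/
theorem isFinitePresentation_of_epi {M Q : SheafOfModules.{w} (ringSh R₀)}
    [M.IsFinitePresentation] (π : M ⟶ Q) [Epi π] (hQ : IsBCOn A Q) :
    Q.IsFinitePresentation := by
  refine isFinitePresentation_of_finite_sections hAD Q hQ hNoeth fun E hE => ?_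
  have hM : Module.Finite ((ringSh R₀).obj.obj (op E)) (M.val.obj (op E)) :=
    finite_sections_of_isFinitePresentation hAD M hE
  have hs := surjective_of_epi_of_isBCOn hAD π (isBCOn_of_isQuasicoherent hAD M) hQ E hE
  have : Module.Finite ((ringSh R₀).obj.obj (op E)) (Q.val.obj (op E)) :=
    Module.Finite.of_surjective (hM := hM) (π.val.app (op E)).hom hs
  exact this

/-- kernels and cokernels of morphisms of finitely presented modules are finitely presented -/
theorem isFinitePresentation_kernel_cokernel {M N : SheafOfModules.{w} (ringSh R₀)}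
    [M.IsFinitePresentation] [N.IsFinitePresentation] (φ : M ⟶ N) :
    (kernel φ).IsFinitePresentation ∧ (cokernel φ).IsFinitePresentation := by
  have hM : IsBCOn A M := isBCOn_of_isQuasicoherent hAD M
  have hN : IsBCOn A N := isBCOn_of_isQuasicoherent hAD N
  constructor
  · exact isFinitePresentation_of_mono hAD hNoeth (kernel.ι φ) (isBCOn_kernel hAD φ hM hN)
  · refine isFinitePresentation_of_epi hAD hNoeth (cokernel.π φ) ?_
    refine isBCOn_of_isColimit hAD (colimit.isColimit (parallelPair φ 0)) ?_
    rintro (_ | _)
    · exact hM
    · exact hN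

end Groth.Agent.H51.QC
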