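import Groth.Agent.H51.QC.AffData
import Mathlib.Algebra.Category.ModuleCat.Sheaf.Colimits

/-!
# Sections over "affine" objects commute with colimits of sheaves of modules satisfying
base change on the affine objects
-/

set_option autoImplicit false
universe w v₁ u₁
open CategoryTheory Limits Opposite

namespace Groth.Agent.H51.QC

variable {C : Type u₁} [Category.{v₁} C] {J : GrothendieckTopology C}

section Adj

variable (R : Sheaf J RingCat.{w}) [HasWeakSheafify J AddCommGrpCat.{w}]
  [J.WEqualsLocallyBijective AddCommGrpCat.{w}]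

/-- the sheafification adjunction for modules over a sheaf of rings -/
noncomputable def shAdj :
    PresheafOfModules.sheafification.{w} (𝟙 R.obj) ⊣ SheafOfModules.forget.{w} R :=
  PresheafOfModules.sheafificationAdjunction.{w} (𝟙 R.obj)

instance : IsIso (shAdj R).counit :=
  inferInstanceAs (IsIso (PresheafOfModules.sheafificationAdjunction.{w} (𝟙 R.obj)).counit)

theorem toPresheaf_map_shAdj_unit_app (P : PresheafOfModules.{w} R.obj) :
    (PresheafOfModules.toPresheaf _).map ((shAdj R).unit.app P) =
      CategoryTheory.toSheafify J P.presheaf := rfl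

/-- a map exhibiting a sheaf of modules as the sheafification of a presheaf of modules is
locally bijective -/
theorem locallyBijective_of_sheafification_iso (P : PresheafOfModules.{w} R.obj)
    (M : SheafOfModules.{w} R)
    (ε : (PresheafOfModules.sheafification.{w} (𝟙 R.obj)).obj P ≅ M) :
    Presheaf.IsLocallyInjective J ((PresheafOfModules.toPresheaf _).map
      ((shAdj R).unit.app P ≫ (SheafOfModules.forget _).map ε.hom)) ∧
    Presheaf.IsLocallySurjective J ((PresheafOfModules.toPresheaf _).map
      ((shAdj R).unit.app P ≫ (SheafOfModules.forget _).map ε.hom)) := by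
  have e : (PresheafOfModules.toPresheaf _).map
      ((shAdj R).unit.app P ≫ (SheafOfModules.forget _).map ε.hom) =
      toSheafify J P.presheaf ≫
        (PresheafOfModules.toPresheaf _).map ((SheafOfModules.forget _).map ε.hom) := by
    simp only [Functor.map_comp, toPresheaf_map_shAdj_unit_app]
    rfl
  rw [e]
  have hiso : IsIso ((PresheafOfModules.toPresheaf R.obj).map
      ((SheafOfModules.forget R).map ε.hom)) := inferInstance
  have hψ1 : Presheaf.IsLocallyInjective J ((PresheafOfModules.toPresheaf R.obj).map
      ((SheafOfModules.forget R).map ε.hom)) := inferInstance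
  have hψ2 : Presheaf.IsLocallySurjective J ((PresheafOfModules.toPresheaf R.obj).map
      ((SheafOfModules.forget R).map ε.hom)) := inferInstance
  have hφ1 : Presheaf.IsLocallyInjective J (toSheafify J P.presheaf) := inferInstance
  have hφ2 : Presheaf.IsLocallySurjective J (toSheafify J P.presheaf) := inferInstance
  exact ⟨@Presheaf.isLocallyInjective_comp _ _ _ _ _ _ _ _ J _ _ _ (toSheafify J P.presheaf)
      ((PresheafOfModules.toPresheaf R.obj).map ((SheafOfModules.forget R).map ε.hom)) hφ1 hψ1,
    @Presheaf.isLocallySurjective_comp _ _ J _ _ _ _ _ _ _ _ _ (toSheafify J P.presheaf)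
      ((PresheafOfModules.toPresheaf R.obj).map ((SheafOfModules.forget R).map ε.hom)) hφ2 hψ2⟩

end Adj

variable [J.HasSheafCompose (forget₂ CommRingCat.{w} RingCat.{w})] (R₀ : Sheaf J CommRingCat.{w})

/-- the underlying sheaf of rings -/
abbrev ringSh : Sheaf J RingCat.{w} :=
  (sheafCompose J (forget₂ CommRingCat.{w} RingCat.{w})).obj R₀

variable [HasWeakSheafify J AddCommGrpCat.{w}] [J.WEqualsLocallyBijective AddCommGrpCat.{w}]
  {A : C → Prop} [HasPullbacks C]
  {K : Type*} [Category K] [HasColimitsOfShape K AddCommGrpCat.{w}]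

section

variable {R₀}
variable (hAD : AffData J R₀.obj A) {D : K ⥤ SheafOfModules.{w} (ringSh R₀)} {c : Cocone D}
  (hc : IsColimit c)
  (hD : ∀ (k : K) {U V : C} (f : U ⟶ V), A U → A V → IsBCAt R₀.obj (D.obj k).val f.op)

/-- the presheaf colimit -/
noncomputable abbrev preColim (D : K ⥤ SheafOfModules.{w} (ringSh R₀)) :
    PresheafOfModules.{w} (ringSh R₀).obj :=
  colimit (D ⋙ SheafOfModules.forget _)

/-- the sheafification of the presheaf colimit is the sheaf colimit -/
noncomputable def shColimIso :
    (PresheafOfModules.sheafification.{w} (𝟙 (ringSh R₀).obj)).obj (preColim D) ≅ c.pt :=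
  IsColimit.coconePointsIsoOfNatIso
    (isColimitOfPreserves (PresheafOfModules.sheafification.{w} (𝟙 (ringSh R₀).obj))
      (colimit.isColimit (D ⋙ SheafOfModules.forget _))) hc
    (Functor.associator _ _ _ ≪≫ Functor.isoWhiskerLeft D (asIso (shAdj (ringSh R₀)).counit) ≪≫
      Functor.rightUnitor D)

/-- the comparison map from the presheaf colimit to the sheaf colimit -/
noncomputable def colimComp : preColim D ⟶ (SheafOfModules.forget _).obj c.pt :=
  (shAdj (ringSh R₀)).unit.app (preColim D) ≫ (SheafOfModules.forget _).map (shColimIso hc).hom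

theorem ι_colimComp (k : K) :
    colimit.ι (D ⋙ SheafOfModules.forget _) k ≫ colimComp hc =
      (SheafOfModules.forget _).map (c.ι.app k) := by
  unfold colimComp
  have h1 := (shAdj (ringSh R₀)).unit.naturality (colimit.ι (D ⋙ SheafOfModules.forget _) k)
  have h2 : (PresheafOfModules.sheafification.{w} (𝟙 (ringSh R₀).obj)).map
      (colimit.ι (D ⋙ SheafOfModules.forget _) k) ≫ (shColimIso hc).hom =
      (shAdj (ringSh R₀)).counit.app (D.obj k) ≫ c.ι.app k := by
    unfold shColimIso
    have := IsColimit.comp_coconePointsIsoOfNatIso_hom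
      (isColimitOfPreserves (PresheafOfModules.sheafification.{w} (𝟙 (ringSh R₀).obj))
        (colimit.isColimit (D ⋙ SheafOfModules.forget _))) hc
      (Functor.associator _ _ _ ≪≫ Functor.isoWhiskerLeft D (asIso (shAdj (ringSh R₀)).counit) ≪≫
        Functor.rightUnitor D) k
    simpa using this
  simp only [Functor.id_map, Functor.comp_map, Functor.id_obj, Functor.comp_obj] at h1
  rw [← Category.assoc, h1, Category.assoc, ← Functor.map_comp, h2, Functor.map_comp,
    ← Category.assoc]
  have h3 := (shAdj (ringSh R₀)).right_triangle_components (D.obj k)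
  erw [h3, Category.id_comp]

include hAD hD in
theorem colimComp_app_bijective (V : C) (hV : A V) :
    Function.Bijective ((colimComp hc).app (op V)) := by
  obtain ⟨h1, h2⟩ := locallyBijective_of_sheafification_iso (ringSh R₀) (preColim D) c.pt
    (shColimIso hc)
  have hQ : ∀ {U V : C} (f : U ⟶ V), A U → A V → IsBCAt R₀.obj (preColim D) f.op :=
    fun f hU hV =>
      isBCAt_of_isColimit R₀.obj (colimit.isColimit (D ⋙ SheafOfModules.forget _)) f.op
        (fun k => hD k f hU hV)
  exact @bijective_of_glueAt_ab C _ J A (preColim D).presheaf c.pt.val.presheaf c.pt.isSheaf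
    ((PresheafOfModules.toPresheaf _).map (colimComp hc)) h1 h2
    (fun V hV => glueAt_of_isBC hAD (preColim D) hQ V hV) V hV

include hAD hD in
theorem isIso_colimComp_app (V : C) (hV : A V) : IsIso ((colimComp hc).app (op V)) :=
  (ConcreteCategory.isIso_iff_bijective _).mpr (colimComp_app_bijective hAD hc hD V hV)

include hAD hc hD in
/-- **Sections over an affine object commute with colimits** of sheaves of modules satisfying
base change on affine objects. -/
theorem isColimit_sections_of_isBC (V : C) (hV : A V) : Nonempty <|
    IsColimit ((SheafOfModules.forget (ringSh R₀) ⋙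
      PresheafOfModules.evaluation (ringSh R₀).obj (op V)).mapCocone c) := by
  have hiso := isIso_colimComp_app hAD hc hD V hV
  have h0 : IsColimit ((PresheafOfModules.evaluation (ringSh R₀).obj (op V)).mapCocone
      (colimit.cocone (D ⋙ SheafOfModules.forget _))) :=
    isColimitOfPreserves _ (colimit.isColimit _)
  refine ⟨IsColimit.ofIsoColimit h0
    (Cocones.ext (@asIso _ _ _ _ ((colimComp hc).app (op V)) hiso) fun k => ?_)⟩
  have := congrArg (fun φ => φ.app (op V)) (ι_colimComp hc k)
  exact this

include hAD hc hD in
/-- The colimit of sheaves of modules satisfying base change on affine objects satisfies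
base change on affine objects. -/
theorem isBCAt_colimit {U V : C} (f : U ⟶ V) (hU : A U) (hV : A V) :
    IsBCAt R₀.obj c.pt.val f.op := by
  have hQ : IsBCAt R₀.obj (preColim D) f.op :=
    isBCAt_of_isColimit R₀.obj (colimit.isColimit (D ⋙ SheafOfModules.forget _)) f.op
      (fun k => hD k f hU hV)
  have h1 := isIso_colimComp_app hAD hc hD V hV
  have h2 := isIso_colimComp_app hAD hc hD U hU
  unfold IsBCAt at hQ ⊢
  have nat := (bcNat R₀.obj f.op).naturality (colimComp hc)
  have h3 : IsIso ((PresheafOfModules.evaluation (ringPre R₀.obj) (op V) ⋙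
      ModuleCat.extendScalars.{w, w, w} (R := R₀.obj.obj (op V)) (S := R₀.obj.obj (op U))
        (R₀.obj.map f.op).hom).map (colimComp hc)) :=
    @Functor.map_isIso _ _ _ _ _ _ (ModuleCat.extendScalars.{w, w, w} (R := R₀.obj.obj (op V))
      (S := R₀.obj.obj (op U)) (R₀.obj.map f.op).hom) ((colimComp hc).app (op V)) h1
  have h4 : IsIso ((PresheafOfModules.evaluation (ringPre R₀.obj) (op U)).map (colimComp hc)) := h2
  have h5 : IsIso ((bcNat R₀.obj f.op).app (preColim D)) := hQ
  have h6 := @IsIso.comp_isIso _ _ _ _ _ _ _ h5 h4
  rw [← nat] at h6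
  exact @IsIso.of_isIso_comp_left _ _ _ _ _ _ _ h3 h6

end

end Groth.Agent.H51.QC
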