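import Groth.Agent.H51.QC.FamDescent

/-!
# Base change along pushouts and cancellation of base change along a finite flat covering family
-/

set_option autoImplicit false
universe u
open TensorProduct

namespace Groth.Agent.H51.QC

section PB

variable {A B B' C : Type u} [CommRing A] [CommRing B] [CommRing B'] [CommRing C]
  {φ : A →+* B} {φ' : A →+* B'} {α : B →+* C} {β : B' →+* C}
  {N' : Type u} [AddCommGroup N'] [Module B' N'] {Y : Type u} [AddCommGroup Y] [Module C Y]

/-- base change along `β` gives base change along `φ` when `C` is the pushout -/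
theorem pb_bijective (hpo : RingPushout φ φ' α β) (s : N' →ₛₗ[β] Y) (hs : SemiBC β s)
    (ω : A →+* C) (hω : α.comp φ = ω) :
    letI := φ.toAlgebra
    letI : Module A N' := Module.compHom N' φ'
    letI : Module A Y := Module.compHom Y ω
    ∃ Ψ : B ⊗[A] N' →ₗ[A] Y, Function.Bijective Ψ ∧ ∀ b m, Ψ (b ⊗ₜ m) = α b • s m := by
  subst hω
  obtain ⟨w, hbij⟩ := hpo
  unfold SemiBC at hs
  letI := φ.toAlgebra
  letI := φ'.toAlgebra
  letI := α.toAlgebra
  letI := β.toAlgebra
  letI := (α.comp φ).toAlgebra
  haveI : IsScalarTower A B C := IsScalarTower.of_algebraMap_eq fun _ => rfl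
  haveI : IsScalarTower A B' C := IsScalarTower.of_algebraMap_eq fun a => RingHom.congr_fun w a
  letI : Module A N' := Module.compHom N' φ'
  haveI : IsScalarTower A B' N' := IsScalarTower.of_algebraMap_smul fun _ _ => rfl
  letI : Module B' Y := Module.compHom Y β
  haveI : IsScalarTower B' C Y := IsScalarTower.of_algebraMap_smul fun _ _ => rfl
  letI : Module A Y := Module.compHom Y (α.comp φ)
  haveI : Algebra.IsPushout A B B' C := by
    rw [Algebra.isPushout_iff, isBaseChange_iff_bijective_lift]
    have : ⇑((IsScalarTower.toAlgHom A B' C).toLinearMap.liftBaseChange B) =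
        ⇑(Algebra.TensorProduct.productMap
          ({ α with commutes' := fun _ => rfl } : B →ₐ[A] C)
          ({ β with commutes' := fun a => (RingHom.congr_fun w a).symm } : B' →ₐ[A] C)) := by
      funext x
      induction x using TensorProduct.induction_on with
      | zero => simp
      | tmul b b' =>
        rw [LinearMap.liftBaseChange_tmul, Algebra.TensorProduct.productMap_apply_tmul,
          Algebra.smul_def]
        rfl
      | add x y hx hy => simp only [map_add, hx, hy]
    rw [this]
    exact hbij
  let e := Algebra.IsPushout.cancelBaseChange A B B' C N'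
  have hs' : IsBaseChange C (semiToLin β s) := hs
  let Ψ : B ⊗[A] N' →ₗ[A] Y := TensorProduct.lift
    (LinearMap.mk₂ A (fun b m => α b • s m)
      (fun b b' m => by rw [map_add, add_smul])
      (fun a b m => by
        change α (φ a * b) • s m = (α (φ a)) • (α b • s m)
        rw [map_mul, mul_smul])
      (fun b m m' => by rw [map_add, smul_add])
      (fun a b m => by
        change α b • s (φ' a • m) = (α (φ a)) • (α b • s m)
        rw [s.map_smulₛₗ, smul_comm, show β (φ' a) = α (φ a) from (RingHom.congr_fun w a).symm]))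
  have hΨ : ∀ b m, Ψ (b ⊗ₜ m) = α b • s m := fun b m => by
    simp only [Ψ, TensorProduct.lift.tmul, LinearMap.mk₂_apply]
  refine ⟨Ψ, ?_, hΨ⟩
  have : ⇑Ψ = ⇑hs'.equiv ∘ ⇑e.symm := by
    funext x
    induction x using TensorProduct.induction_on with
    | zero => simp
    | tmul b m =>
      rw [hΨ, Function.comp_apply, Algebra.IsPushout.cancelBaseChange_symm_tmul,
        IsBaseChange.equiv_tmul]
      rfl
    | add x y hx hy =>
      rw [map_add, hx, hy]
      simp only [Function.comp_apply, map_add]
  rw [this]
  exact hs'.equiv.bijective.comp e.symm.bijective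

end PB

section JFF

variable {B : Type u} [CommRing B] {ι : Type} [Fintype ι] [DecidableEq ι]
  (Ck : ι → Type u) [∀ k, CommRing (Ck k)] [∀ k, Algebra B (Ck k)] [∀ k, Module.Flat B (Ck k)]
  {P Q : Type u} [AddCommGroup P] [AddCommGroup Q] [Module B P] [Module B Q]

/-- bijectivity can be tested after tensoring with a finite jointly faithfully flat family -/
theorem bijective_of_family
    (hsurj : ∀ p : PrimeSpectrum B, ∃ (k : ι) (q : PrimeSpectrum (Ck k)),
      PrimeSpectrum.comap (algebraMap B (Ck k)) q = p)
    (Φ : P →ₗ[B] Q) (h : ∀ k, Function.Bijective (Φ.lTensor (Ck k))) : Function.Bijective Φ := by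
  haveI := faithfullyFlat_pi Ck hsurj
  rw [← Module.FaithfullyFlat.lTensor_bijective_iff_bijective B (∀ k, Ck k)]
  have nat : ∀ (x : (∀ k, Ck k) ⊗[B] P) (k : ι),
      famPr Ck Q k (Φ.lTensor (∀ k, Ck k) x) = Φ.lTensor (Ck k) (famPr Ck P k x) := by
    intro x k
    unfold famPr
    rw [← LinearMap.comp_apply, ← LinearMap.comp_apply, LinearMap.rTensor_comp_lTensor,
      LinearMap.lTensor_comp_rTensor]
  have e : ⇑(Φ.lTensor (∀ k, Ck k)) = ⇑(TensorProduct.piLeft B Q Ck).symm ∘
      (fun z k => Φ.lTensor (Ck k) (z k)) ∘ ⇑(TensorProduct.piLeft B P Ck) := by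
    funext x
    simp only [Function.comp_apply]
    rw [LinearEquiv.eq_symm_apply]
    funext k
    rw [piLeft_apply_eq, nat, piLeft_apply_eq]
  rw [e]
  refine (LinearEquiv.bijective _).comp (Function.Bijective.comp ?_ (LinearEquiv.bijective _))
  constructor
  · intro z z' hz
    funext k
    exact (h k).1 (congrFun hz k)
  · intro z
    choose y hy using fun k => (h k).2 (z k)
    exact ⟨y, funext hy⟩

end JFF

section LT

theorem lTensor_liftBaseChange_bijective
    {R S T : Type*} [CommRing R] [CommRing S] [CommRing T] [Algebra R S] [Algebra R T] [Algebra S T]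
    [IsScalarTower R S T]
    {M N O : Type*} [AddCommGroup M] [AddCommGroup N] [AddCommGroup O] [Module R M] [Module R N]
    [Module S N] [IsScalarTower R S N] [Module R O] [Module S O] [Module T O] [IsScalarTower S T O]
    [IsScalarTower R S O] [IsScalarTower R T O]
    (f : M →ₗ[R] N) (g : N →ₗ[S] O) (hg : IsBaseChange T g)
    (hc : IsBaseChange T ((g.restrictScalars R).comp f)) :
    Function.Bijective ((f.liftBaseChange S).lTensor T) := by
  rw [isBaseChange_iff_bijective_lift] at hc
  have key : ∀ x, hg.equiv ((f.liftBaseChange S).lTensor T x) =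
      ((g.restrictScalars R).comp f).liftBaseChange T
        (AlgebraTensorModule.cancelBaseChange R S T T M x) := by
    intro x
    induction x using TensorProduct.induction_on with
    | zero => simp
    | tmul t y =>
      induction y using TensorProduct.induction_on with
      | zero => simp
      | tmul s m =>
        simp only [LinearMap.lTensor_tmul, LinearMap.liftBaseChange_tmul, IsBaseChange.equiv_tmul,
          AlgebraTensorModule.cancelBaseChange_tmul, LinearMap.coe_comp, LinearMap.coe_restrictScalars,
          Function.comp_apply, map_smul]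
        rw [Algebra.smul_def s t, ← IsScalarTower.algebraMap_smul T s (g (f m)), smul_smul, mul_comm]
      | add y z hy hz =>
        simp only [tmul_add, map_add, hy, hz]
    | add x y hx hy => simp only [map_add, hx, hy]
  have : ⇑((f.liftBaseChange S).lTensor T) = hg.equiv.symm ∘
      ⇑(((g.restrictScalars R).comp f).liftBaseChange T) ∘
        ⇑(AlgebraTensorModule.cancelBaseChange R S T T M) := by
    ext x
    simp only [Function.comp_apply]
    rw [← key, LinearEquiv.symm_apply_apply]
  rw [this]
  exact hg.equiv.symm.bijective.comp (hc.comp (LinearEquiv.bijective _))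

end LT

section FCL

variable {A B : Type u} [CommRing A] [CommRing B] (φ : A →+* B)
  {ι : Type} [Fintype ι] [DecidableEq ι] {Ck : ι → Type u} [∀ k, CommRing (Ck k)]
  (ψ : ∀ k, B →+* Ck k)
  {N : Type u} [AddCommGroup N] [Module A N] {Q : Type u} [AddCommGroup Q] [Module B Q]
  {Qk : ι → Type u} [∀ k, AddCommGroup (Qk k)] [∀ k, Module (Ck k) (Qk k)]

/-- cancellation of base change along a finite jointly faithfully flat family -/
theorem famCancel (hflat : ∀ k, (ψ k).Flat)
    (hsurj : ∀ pp : PrimeSpectrum B, ∃ (k : ι) (qq : PrimeSpectrum (Ck k)),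
      PrimeSpectrum.comap (ψ k) qq = pp)
    (f : N →ₛₗ[φ] Q) (g : ∀ k, Q →ₛₗ[ψ k] Qk k) (hg : ∀ k, SemiBC (ψ k) (g k))
    (c : ∀ k, N →ₛₗ[(ψ k).comp φ] Qk k) (hc : ∀ k, SemiBC ((ψ k).comp φ) (c k))
    (hcg : ∀ k n, c k n = g k (f n)) : SemiBC φ f := by
  unfold SemiBC at hg hc ⊢
  letI := φ.toAlgebra
  letI algC : ∀ k, Algebra B (Ck k) := fun k => (ψ k).toAlgebra
  letI algC' : ∀ k, Algebra A (Ck k) := fun k => ((ψ k).comp φ).toAlgebra
  haveI : ∀ k, IsScalarTower A B (Ck k) := fun k => IsScalarTower.of_algebraMap_eq fun _ => rfl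
  letI : Module A Q := Module.compHom Q φ
  haveI : IsScalarTower A B Q := IsScalarTower.of_algebraMap_smul fun _ _ => rfl
  letI modB : ∀ k, Module B (Qk k) := fun k => Module.compHom (Qk k) (ψ k)
  letI modA : ∀ k, Module A (Qk k) := fun k => Module.compHom (Qk k) ((ψ k).comp φ)
  haveI : ∀ k, IsScalarTower B (Ck k) (Qk k) := fun k =>
    IsScalarTower.of_algebraMap_smul fun _ _ => rfl
  haveI : ∀ k, IsScalarTower A (Ck k) (Qk k) := fun k =>
    IsScalarTower.of_algebraMap_smul fun _ _ => rfl
  haveI : ∀ k, IsScalarTower A B (Qk k) := fun k => IsScalarTower.of_algebraMap_smul fun a o => by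
    change ψ k (φ a) • o = ψ k (φ a) • o
    rfl
  haveI : ∀ k, Module.Flat B (Ck k) := hflat
  have hg' : ∀ k, IsBaseChange (Ck k) (semiToLin (ψ k) (g k)) := hg
  have hc' : ∀ k, IsBaseChange (Ck k) (semiToLin ((ψ k).comp φ) (c k)) := hc
  change IsBaseChange B (semiToLin φ f)
  rw [isBaseChange_iff_bijective_lift]
  refine bijective_of_family Ck hsurj _ fun k => ?_
  refine lTensor_liftBaseChange_bijective (semiToLin φ f) (semiToLin (ψ k) (g k)) (hg' k) ?_
  have e : semiToLin ((ψ k).comp φ) (c k) =
      ((semiToLin (ψ k) (g k)).restrictScalars A) ∘ₗ (semiToLin φ f) := by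
    ext n
    exact hcg k n
  rw [← e]
  exact hc' k

end FCL

end Groth.Agent.H51.QC
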