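import Groth.Agent.H51.QC.QCohBC
import Groth.Agent.H51.QC.FamCancel

/-!
# Globalization of base change: from affine objects lying over a trivializing family to all
affine objects
-/

set_option autoImplicit false
universe w v₁ u₁
open CategoryTheory Limits Opposite TensorProduct

namespace Groth.Agent.H51.QC

section SheafGlue

variable {C : Type u₁} [Category.{v₁} C] {J : GrothendieckTopology C} [HasPullbacks C]

theorem sheaf_sep_glue (F : Cᵒᵖ ⥤ AddCommGrpCat.{w}) (hF : Presheaf.IsSheaf J F) {V : C}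
    {ι : Type} (U : ι → C) (g : ∀ k, U k ⟶ V) (hcov : Sieve.ofArrows U g ∈ J V) :
    (∀ s : F.obj (op V), (∀ k, F.map (g k).op s = 0) → s = 0) ∧
    (∀ x : ∀ k, F.obj (op (U k)),
      (∀ k l, F.map (pullback.fst (g k) (g l)).op (x k) =
        F.map (pullback.snd (g k) (g l)).op (x l)) → ∃ s, ∀ k, F.map (g k).op s = x k) := by
  have hF' : Presieve.IsSheaf J (F ⋙ forget AddCommGrpCat) :=
    Presieve.isSheaf_iso J (Functor.isoWhiskerLeft F AddCommGrpCat.coyonedaObjIsoForget)
      (hF (AddCommGrpCat.of (ULift.{w} ℤ)))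
  have h1 : Presieve.IsSheafFor (F ⋙ forget AddCommGrpCat) (Presieve.ofArrows U g) := by
    rw [Presieve.isSheafFor_iff_generate]
    exact hF' _ hcov
  rw [Presieve.isSheafFor_arrows_iff_pullbacks] at h1
  constructor
  · intro s hs
    obtain ⟨t, -, ht⟩ := h1 (fun k => (0 : F.obj (op (U k)))) (fun k l => by
      change F.map _ 0 = F.map _ 0
      rw [map_zero, map_zero])
    exact (ht s hs).trans (ht (0 : F.obj (op V)) (fun k => map_zero (F.map (g k).op).hom)).symm
  · intro x hx
    obtain ⟨t, ht, -⟩ := h1 x hx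
    exact ⟨t, ht⟩

end SheafGlue

section ResLin

variable {C : Type u₁} [Category.{v₁} C] (R₀ : Cᵒᵖ ⥤ CommRingCat.{w})
  (P : PresheafOfModules.{w} (ringPre R₀))

/-- restriction along a morphism over `V`, as a linear map over the ring of `V` -/
noncomputable def resLin {V X Y : C} (x : X ⟶ V) (y : Y ⟶ V) (f : X ⟶ Y) (hw : f ≫ y = x) :
    letI : Module (R₀.obj (op V)) (P.obj (op Y)) := Module.compHom _ (R₀.map y.op).hom
    letI : Module (R₀.obj (op V)) (P.obj (op X)) := Module.compHom _ (R₀.map x.op).hom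
    P.obj (op Y) →ₗ[R₀.obj (op V)] P.obj (op X) :=
  letI : Module (R₀.obj (op V)) (P.obj (op Y)) := Module.compHom _ (R₀.map y.op).hom
  letI : Module (R₀.obj (op V)) (P.obj (op X)) := Module.compHom _ (R₀.map x.op).hom
  { toFun := fun m => P.map f.op m
    map_add' := fun a b => map_add _ a b
    map_smul' := fun a m => by
      change P.map f.op ((R₀.map y.op).hom a • m) = (R₀.map x.op).hom a • P.map f.op m
      rw [PresheafOfModules.map_smul]
      subst hw
      rw [op_comp, R₀.map_comp]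
      rfl }

theorem resLin_apply {V X Y : C} (x : X ⟶ V) (y : Y ⟶ V) (f : X ⟶ Y) (hw : f ≫ y = x)
    (m : P.obj (op Y)) : resLin R₀ P x y f hw m = resSL R₀ P f.op m := rfl

theorem resSL_comp {X Y Z : Cᵒᵖ} (f : X ⟶ Y) (g : Y ⟶ Z) (m : P.obj X) :
    resSL R₀ P (f ≫ g) m = resSL R₀ P g (resSL R₀ P f m) :=
  PresheafOfModules.map_comp_apply P f g m

theorem resSL_congr {X Y : Cᵒᵖ} {f f' : X ⟶ Y} (h : f = f') (m : P.obj X) :
    resSL R₀ P f m = resSL R₀ P f' m := by
  subst h
  rfl

theorem ringMap_comp_apply {X Y Z : Cᵒᵖ} (f : X ⟶ Y) (g : Y ⟶ Z) (b : R₀.obj X) :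
    (R₀.map (f ≫ g)).hom b = (R₀.map g).hom ((R₀.map f).hom b) := by
  rw [R₀.map_comp]
  rfl

theorem ringMap_congr {X Y : Cᵒᵖ} {f f' : X ⟶ Y} (h : f = f') (b : R₀.obj X) :
    (R₀.map f).hom b = (R₀.map f').hom b := by
  subst h
  rfl

end ResLin

section Member

variable {C : Type u₁} [Category.{v₁} C] {J : GrothendieckTopology C}
  {R₀ : Cᵒᵖ ⥤ CommRingCat.{w}} {A : C → Prop} [HasPullbacks C]

theorem pullback_cover_mem {V : C} {ι : Type} (U : ι → C) (g : ∀ k, U k ⟶ V)
    (hcov : Sieve.ofArrows U g ∈ J V) {V' : C} (f : V' ⟶ V) :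
    Sieve.ofArrows (fun k => pullback f (g k)) (fun k => pullback.fst f (g k)) ∈ J V' := by
  refine J.superset_covering ?_ (J.pullback_stable f hcov)
  intro Z a ha
  obtain ⟨Y, c, _, ⟨k⟩, hck⟩ := ha
  rw [← pullback.lift_fst a c hck.symm]
  exact Sieve.downward_closed _ (Sieve.ofArrows_mk _ _ k) _

/-- Step 1 of the globalization: base change along the members of a finite covering family by
affine objects on which base change is known. -/
theorem isBCAt_cover_member (hAD : AffData J R₀ A) (P : PresheafOfModules.{w} (ringPre R₀))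
    (hP : Presheaf.IsSheaf J P.presheaf)
    (L : C → Prop) (hLpre : ∀ {X Y : C} (_ : X ⟶ Y), L Y → L X)
    (hL : ∀ {X Y : C} (f : X ⟶ Y), A X → A Y → L Y → IsBCAt R₀ P f.op)
    {V : C} (hV : A V) {n : ℕ} (U : Fin n → C) (g : ∀ k, U k ⟶ V) (hU : ∀ k, A (U k))
    (hUL : ∀ k, L (U k)) (hcov : Sieve.ofArrows U g ∈ J V) (k0 : Fin n) :
    IsBCAt R₀ P (g k0).op := by
  rw [isBCAt_iff_semiBC]
  unfold SemiBC
  have hPk : ∀ k, A (pullback (g k0) (g k)) := fun k =>
    hAD.pullback_mem (IsPullback.of_hasPullback _ _) (hU k0) (hU k) hV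
  have hW : ∀ k l, A (pullback (g k) (g l)) := fun k l =>
    hAD.pullback_mem (IsPullback.of_hasPullback _ _) (hU k) (hU l) hV
  have hT : ∀ k l, A (pullback (g k0) (pullback.fst (g k) (g l) ≫ g k)) := fun k l =>
    hAD.pullback_mem (IsPullback.of_hasPullback _ _) (hU k0) (hW k l) hV
  have hWL : ∀ k l, L (pullback (g k) (g l)) := fun k l =>
    hLpre (pullback.fst (g k) (g l)) (hUL k)
  -- the comparison morphisms
  let ρ : ∀ k l, pullback (g k0) (pullback.fst (g k) (g l) ≫ g k) ⟶ pullback (g k0) (g k) :=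
    fun k l => pullback.lift (pullback.fst _ _) (pullback.snd _ _ ≫ pullback.fst (g k) (g l))
      (pullback.condition.trans (Category.assoc _ _ _).symm)
  let ρ' : ∀ k l, pullback (g k0) (pullback.fst (g k) (g l) ≫ g k) ⟶ pullback (g k0) (g l) :=
    fun k l => pullback.lift (pullback.fst _ _) (pullback.snd _ _ ≫ pullback.snd (g k) (g l))
      (pullback.condition.trans (by
        rw [Category.assoc, ← pullback.condition (f := g k) (g := g l)]))
  have hρ1 : ∀ k l, ρ k l ≫ pullback.fst _ _ = pullback.fst _ _ := fun k l => pullback.lift_fst _ _ _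
  have hρ2 : ∀ k l, ρ k l ≫ pullback.snd _ _ = pullback.snd _ _ ≫ pullback.fst (g k) (g l) :=
    fun k l => pullback.lift_snd _ _ _
  have hρ'1 : ∀ k l, ρ' k l ≫ pullback.fst _ _ = pullback.fst _ _ := fun k l => pullback.lift_fst _ _ _
  have hρ'2 : ∀ k l, ρ' k l ≫ pullback.snd _ _ = pullback.snd _ _ ≫ pullback.snd (g k) (g l) :=
    fun k l => pullback.lift_snd _ _ _
  -- instances
  letI := (R₀.map (g k0).op).hom.toAlgebra
  haveI : Module.Flat (R₀.obj (op V)) (R₀.obj (op (U k0))) := hAD.flat (g k0) (hU k0) hV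
  letI modNk : ∀ k, Module (R₀.obj (op V)) (P.obj (op (U k))) := fun k =>
    Module.compHom _ (R₀.map (g k).op).hom
  haveI : IsScalarTower (R₀.obj (op V)) (R₀.obj (op (U k0))) (P.obj (op (U k0))) :=
    IsScalarTower.of_algebraMap_smul fun _ _ => rfl
  letI modNkl : ∀ k l, Module (R₀.obj (op V)) (P.obj (op (pullback (g k) (g l)))) :=
    fun k l => Module.compHom _ (R₀.map (pullback.fst (g k) (g l) ≫ g k).op).hom
  letI modYk : ∀ k, Module (R₀.obj (op V)) (P.obj (op (pullback (g k0) (g k)))) :=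
    fun k => Module.compHom _ (R₀.map (pullback.fst (g k0) (g k) ≫ g k0).op).hom
  letI modZ : ∀ k l, Module (R₀.obj (op V))
      (P.obj (op (pullback (g k0) (pullback.fst (g k) (g l) ≫ g k)))) :=
    fun k l => Module.compHom _
      (R₀.map (pullback.fst (g k0) (pullback.fst (g k) (g l) ≫ g k) ≫ g k0).op).hom
  change IsBaseChange (R₀.obj (op (U k0)))
    (semiToLin (R₀.map (g k0).op).hom (resSL R₀ P (g k0).op))
  -- sheaf condition
  obtain ⟨hinj, hglue⟩ := sheaf_sep_glue P.presheaf hP U g hcov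
  obtain ⟨hr, -⟩ := sheaf_sep_glue P.presheaf hP _ _ (pullback_cover_mem U g hcov (g k0))
  -- the base change maps
  choose Ψ hΨbij hΨ using fun k => pb_bijective
    (hAD.pushout (IsPullback.of_hasPullback (g k0) (g k)) (hU k0) (hU k) hV)
    (resSL R₀ P (pullback.snd (g k0) (g k)).op)
    ((isBCAt_iff_semiBC _ _ _).mp (hL (pullback.snd (g k0) (g k)) (hPk k) (hU k) (hUL k)))
    (R₀.map (pullback.fst (g k0) (g k) ≫ g k0).op).hom
    (by rw [op_comp, R₀.map_comp]; rfl)
  choose Ψ2 hΨ2bij hΨ2 using fun k l => pb_bijective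
    (hAD.pushout (IsPullback.of_hasPullback (g k0) (pullback.fst (g k) (g l) ≫ g k))
      (hU k0) (hW k l) hV)
    (resSL R₀ P (pullback.snd (g k0) (pullback.fst (g k) (g l) ≫ g k)).op)
    ((isBCAt_iff_semiBC _ _ _).mp (hL (pullback.snd (g k0) (pullback.fst (g k) (g l) ≫ g k))
      (hT k l) (hW k l) (hWL k l)))
    (R₀.map (pullback.fst (g k0) (pullback.fst (g k) (g l) ≫ g k) ≫ g k0).op).hom
    (by rw [op_comp, R₀.map_comp]; rfl)
  refine descent_core (B := R₀.obj (op (U k0)))
    (Nk := fun k => P.obj (op (U k)))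
    (Nkl := fun k l => P.obj (op (pullback (g k) (g l))))
    (Yk := fun k => P.obj (op (pullback (g k0) (g k))))
    (Zkl := fun k l => P.obj (op (pullback (g k0) (pullback.fst (g k) (g l) ≫ g k))))
    (fun k => semiToLin (R₀.map (g k).op).hom (resSL R₀ P (g k).op))
    (fun k l => resLin R₀ P (pullback.fst (g k) (g l) ≫ g k) (g k)
      (pullback.fst (g k) (g l)) rfl)
    (fun k l => resLin R₀ P (pullback.fst (g k) (g l) ≫ g k) (g l)
      (pullback.snd (g k) (g l)) pullback.condition.symm)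
    (semiToLin (R₀.map (g k0).op).hom (resSL R₀ P (g k0).op))
    (fun k => resLin R₀ P (pullback.fst (g k0) (g k) ≫ g k0) (g k0)
      (pullback.fst (g k0) (g k)) rfl)
    Ψ Ψ2
    (fun k l => resLin R₀ P
      (pullback.fst (g k0) (pullback.fst (g k) (g l) ≫ g k) ≫ g k0)
      (pullback.fst (g k0) (g k) ≫ g k0) (ρ k l) (by rw [← Category.assoc, hρ1]))
    (fun k l => resLin R₀ P
      (pullback.fst (g k0) (pullback.fst (g k) (g l) ≫ g k) ≫ g k0)
      (pullback.fst (g k0) (g l) ≫ g k0) (ρ' k l) (by rw [← Category.assoc, hρ'1]))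
    ?_ ?_ ?_ ?_ hΨbij (fun k l => (hΨ2bij k l).1) ?_ ?_ ?_ ?_
  · exact hinj
  · exact hglue
  · intro k l m
    rw [resLin_apply, resLin_apply, semiToLin_apply, semiToLin_apply, ← resSL_comp, ← resSL_comp]
    exact resSL_congr R₀ P (by rw [← op_comp, ← op_comp, pullback.condition]) m
  · exact hr
  · intro k l y
    rw [resLin_apply, resLin_apply, resLin_apply, resLin_apply, ← resSL_comp, ← resSL_comp]
    exact resSL_congr R₀ P (by rw [← op_comp, ← op_comp, hρ1, hρ'1]) y
  · intro k l b m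
    rw [hΨ, hΨ2, resLin_apply, resLin_apply, (resSL R₀ P (ρ k l).op).map_smulₛₗ,
      ← resSL_comp, ← resSL_comp, ← ringMap_comp_apply]
    refine congrArg₂ (· • ·) (ringMap_congr R₀ (by rw [← op_comp, hρ1]) b)
      (resSL_congr R₀ P (by rw [← op_comp, ← op_comp, hρ2]) m)
  · intro k l b m
    rw [hΨ, hΨ2, resLin_apply, resLin_apply, (resSL R₀ P (ρ' k l).op).map_smulₛₗ,
      ← resSL_comp, ← resSL_comp, ← ringMap_comp_apply]
    refine congrArg₂ (· • ·) (ringMap_congr R₀ (by rw [← op_comp, hρ'1]) b)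
      (resSL_congr R₀ P (by rw [← op_comp, ← op_comp, hρ'2]) m)
  · intro k b m
    rw [hΨ, resLin_apply, semiToLin_apply, semiToLin_apply, (resSL R₀ P _).map_smulₛₗ,
      ← resSL_comp, ← resSL_comp]
    refine congrArg₂ (· • ·) rfl
      (resSL_congr R₀ P (by rw [← op_comp, ← op_comp, pullback.condition]) m)

/-- Step 2 of the globalization: base change along any morphism between affine objects, given a
finite covering family of the target by affine objects on which base change is known. -/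
theorem isBCAt_of_cover (hAD : AffData J R₀ A) (P : PresheafOfModules.{w} (ringPre R₀))
    (hP : Presheaf.IsSheaf J P.presheaf)
    (L : C → Prop) (hLpre : ∀ {X Y : C} (_ : X ⟶ Y), L Y → L X)
    (hL : ∀ {X Y : C} (f : X ⟶ Y), A X → A Y → L Y → IsBCAt R₀ P f.op)
    {V : C} (hV : A V) {n : ℕ} (U : Fin n → C) (g : ∀ k, U k ⟶ V) (hU : ∀ k, A (U k))
    (hUL : ∀ k, L (U k)) (hcov : Sieve.ofArrows U g ∈ J V)
    {V' : C} (f : V' ⟶ V) (hV' : A V') : IsBCAt R₀ P f.op := by
  have hVk : ∀ k, A (pullback f (g k)) := fun k =>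
    hAD.pullback_mem (IsPullback.of_hasPullback _ _) hV' (hU k) hV
  have hVkL : ∀ k, L (pullback f (g k)) := fun k => hLpre (pullback.snd f (g k)) (hUL k)
  have hcov' := pullback_cover_mem U g hcov f
  have h1 : ∀ k, SemiBC (R₀.map (g k).op).hom (resSL R₀ P (g k).op) := fun k =>
    (isBCAt_iff_semiBC _ _ _).mp (isBCAt_cover_member hAD P hP L hLpre hL hV U g hU hUL hcov k)
  have h2 : ∀ k, SemiBC (R₀.map (pullback.fst f (g k)).op).hom
      (resSL R₀ P (pullback.fst f (g k)).op) := fun k =>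
    (isBCAt_iff_semiBC _ _ _).mp
      (isBCAt_cover_member hAD P hP L hLpre hL hV' _ _ hVk hVkL hcov' k)
  have h3 : ∀ k, SemiBC (R₀.map (pullback.snd f (g k)).op).hom
      (resSL R₀ P (pullback.snd f (g k)).op) := fun k =>
    (isBCAt_iff_semiBC _ _ _).mp (hL (pullback.snd f (g k)) (hVk k) (hU k) (hUL k))
  rw [isBCAt_iff_semiBC]
  refine famCancel (R₀.map f.op).hom (fun k => (R₀.map (pullback.fst f (g k)).op).hom)
    (fun k => hAD.flat _ (hVk k) hV') (hAD.surj _ _ hV' hVk hcov')
    (resSL R₀ P f.op) (fun k => resSL R₀ P (pullback.fst f (g k)).op) h2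
    (fun k => semiComp (resSL R₀ P f.op) (resSL R₀ P (pullback.fst f (g k)).op)) ?_
    (fun k n => rfl)
  intro k
  have h4 : SemiBC ((R₀.map (pullback.snd f (g k)).op).hom.comp (R₀.map (g k).op).hom)
      (semiComp (resSL R₀ P (g k).op) (resSL R₀ P (pullback.snd f (g k)).op)) :=
    (SemiBC.comp_iff (fun m => rfl) (h1 k)).mpr (h3 k)
  refine (SemiBC.congr ?_ ?_).mp h4
  · ext b
    change (R₀.map (pullback.snd f (g k)).op).hom ((R₀.map (g k).op).hom b) =
      (R₀.map (pullback.fst f (g k)).op).hom ((R₀.map f.op).hom b)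
    rw [← ringMap_comp_apply, ← ringMap_comp_apply]
    exact ringMap_congr R₀ (by rw [← op_comp, ← op_comp, pullback.condition]) b
  · intro m
    rw [semiComp_apply, semiComp_apply, ← resSL_comp, ← resSL_comp]
    exact resSL_congr R₀ P (by rw [← op_comp, ← op_comp, pullback.condition]) m

/-- **Globalization of base change.** If base change holds between affine objects whose target
lies in a class `L` closed under precomposition, and the members of `L` cover every affine
object, then base change holds between all affine objects. -/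
theorem isBCAt_of_local (hAD : AffData J R₀ A) (P : PresheafOfModules.{w} (ringPre R₀))
    (hP : Presheaf.IsSheaf J P.presheaf)
    (L : C → Prop) (hLpre : ∀ {X Y : C} (_ : X ⟶ Y), L Y → L X)
    (hL : ∀ {X Y : C} (f : X ⟶ Y), A X → A Y → L Y → IsBCAt R₀ P f.op)
    (hLcov : ∀ V : C, A V → ∃ S ∈ J V, ∀ ⦃Y : C⦄ (f : Y ⟶ V), S f → L Y)
    {V' V : C} (f : V' ⟶ V) (hV' : A V') (hV : A V) : IsBCAt R₀ P f.op := by
  obtain ⟨S, hS, hSL⟩ := hLcov V hV
  obtain ⟨n, U, g, hU, hgS, hcov⟩ := hAD.cover S hV hS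
  exact isBCAt_of_cover hAD P hP L hLpre hL hV U g hU (fun k => hSL _ (hgS k)) hcov f hV'

end Member

end Groth.Agent.H51.QC
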