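import Groth.Agent.H51.QC.EtAff
import Groth.Agent.H51.SpNoeth
import Groth.Agent.H13.NoethDescent

/-!
# On a locally Noetherian sheaf, the affine objects of the small étale site have Noetherian rings
-/

set_option autoImplicit false
set_option backward.isDefEq.respectTransparency false
universe u
open CategoryTheory CategoryTheory.Limits AlgebraicGeometry Opposite TopologicalSpace
open AlgSp

namespace Groth.Agent.H51.QC

variable {S : Scheme.{u}} {X : Sp S}

/-- a flat, surjective morphism from a locally Noetherian scheme to an affine scheme forces the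
ring of global functions of the target to be Noetherian (no quasi-compactness needed when the
morphism is open) -/
theorem isNoetherianRing_of_flat_open_surjective {W E : Scheme.{u}} [IsAffine E]
    [IsLocallyNoetherian W] (p : W ⟶ E) [Flat p] (hopen : IsOpenMap p)
    (hsurj : Function.Surjective p) : IsNoetherianRing Γ(E, ⊤) := by
  -- a quasi-compact open of `W` mapping onto `E`
  have key : ∀ z : W, ∃ V : W.Opens, z ∈ V ∧ IsCompact (V : Set W) := by
    intro z
    obtain ⟨_, ⟨V, hV, rfl⟩, hzV, -⟩ :=
      (W.isBasis_affineOpens).exists_subset_of_mem_open (Set.mem_univ z) isOpen_univ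
    exact ⟨V, hzV, hV.isCompact⟩
  choose V hV1 hV2 using key
  obtain ⟨t, ht⟩ := isCompact_univ.elim_finite_subcover (fun z : W => p '' (V z : Set W))
    (fun z => hopen _ (V z).isOpen) (by
      intro w _
      obtain ⟨z, rfl⟩ := hsurj w
      exact Set.mem_iUnion.2 ⟨z, z, hV1 z, rfl⟩)
  let W' : W.Opens := ⨆ z ∈ t, V z
  have hW'c : IsCompact (W' : Set W) := by
    have : (W' : Set W) = ⋃ z ∈ t, (V z : Set W) := by
      simp [W']
    rw [this]
    exact t.isCompact_biUnion fun z _ => hV2 z
  haveI : CompactSpace ↥(W'.toScheme) := isCompact_iff_compactSpace.mp hW'c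
  haveI : IsLocallyNoetherian W'.toScheme := isLocallyNoetherian_of_isOpenImmersion W'.ι
  let q : W'.toScheme ⟶ E := W'.ι ≫ p
  haveI : Surjective q := by
    refine ⟨fun w => ?_⟩
    obtain ⟨z, hz⟩ := Set.mem_iUnion.1 (ht (Set.mem_univ w))
    obtain ⟨hzt, y, hy, rfl⟩ := Set.mem_iUnion.1 hz
    have hyW' : y ∈ W' := by
      simp only [W', Opens.mem_iSup]
      exact ⟨z, hzt, hy⟩
    exact ⟨⟨y, hyW'⟩, rfl⟩
  haveI : QuasiCompact q := quasiCompact_of_compactSpace q
  exact Groth.Agent.H13.isNoetherianRing_of_flat_surjective_quasiCompact' q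

/-- On a locally Noetherian sheaf, affine objects of the small étale site have Noetherian rings
of functions. -/
theorem isNoetherianRing_gamma_of_isLocNoethSp (hX : IsLocNoethSp X) (E : EtOver X)
    (hE : IsAffine E.obj.left.left) : IsNoetherianRing Γ(E.obj.left.left, ⊤) := by
  obtain ⟨U₀, a₀, ha₀, has₀, hN⟩ := hX
  haveI : IsLocallyNoetherian U₀.left := hN
  have sq := ha₀.rep.isPullback' E.obj.hom
  have hp₁ : Etale (ha₀.rep.fst' E.obj.hom).left := E.property.property _ _ _ sq.flip
  have hp₂E : Etale (ha₀.rep.snd E.obj.hom).left := ha₀.property _ _ _ sq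
  have hp₂S : Surjective (ha₀.rep.snd E.obj.hom).left := has₀.property _ _ _ sq
  haveI : IsLocallyNoetherian (ha₀.rep.pullback E.obj.hom).left :=
    LocallyOfFiniteType.isLocallyNoetherian (ha₀.rep.fst' E.obj.hom).left
  exact isNoetherianRing_of_flat_open_surjective (ha₀.rep.snd E.obj.hom).left
    (ha₀.rep.snd E.obj.hom).left.isOpenMap hp₂S.surj

theorem isNoetherianRing_OEt_of_isLocNoethSp (hX : IsLocNoethSp X) (E : EtOver X)
    (hE : IsAffine E.obj.left.left) : IsNoetherianRing ((OEt X).obj.obj (op E)) := by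
  haveI := isNoetherianRing_gamma_of_isLocNoethSp hX E hE
  exact isNoetherianRing_of_ringEquiv _
    (ULift.ringEquiv.{u, u + 1} : ULift.{u + 1} Γ(E.obj.left.left, ⊤) ≃+* _).symm

end Groth.Agent.H51.QC
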