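import Groth.Agent.H51.QC.Descent

/-!
# Theorem A: a quasi-coherent sheaf of modules satisfies base change between affine objects
-/

set_option autoImplicit false
universe w v₁ u₁
open CategoryTheory Limits Opposite

namespace Groth.Agent.H51.QC

variable {C : Type u₁} [Category.{v₁} C] {J : GrothendieckTopology C}
  [J.HasSheafCompose (forget₂ CommRingCat.{w} RingCat.{w})] {R₀ : Sheaf J CommRingCat.{w}}
  [HasSheafify J AddCommGrpCat.{w}] [J.WEqualsLocallyBijective AddCommGrpCat.{w}]
  [∀ X : C, (J.over X).HasSheafCompose (forget₂ CommRingCat.{w} RingCat.{w})]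
  [∀ X : C, HasSheafify (J.over X) AddCommGrpCat.{w}]
  [∀ X : C, (J.over X).WEqualsLocallyBijective AddCommGrpCat.{w}]
  {A : C → Prop} [HasPullbacks C]

/-- **Theorem A.** A quasi-coherent sheaf of modules satisfies base change between affine
objects. -/
theorem isBCOn_of_quasicoherentData (hAD : AffData J R₀.obj A)
    (M : SheafOfModules.{w} (ringSh R₀)) (q : M.QuasicoherentData) : IsBCOn A M := by
  intro U V f hU hV
  refine isBCAt_of_local hAD M.val M.isSheaf (fun Y => ∃ i, Nonempty (Y ⟶ q.X i))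
    (fun a ⟨i, ⟨e⟩⟩ => ⟨i, ⟨a ≫ e⟩⟩)
    (fun f hX hY ⟨i, ⟨e⟩⟩ => isBCAt_of_quasicoherentData hAD M q i f e hX hY)
    (fun V _ => ⟨Sieve.ofObjects q.X V, q.coversTop V, fun Y f hf => hf⟩) f hU hV

theorem isBCOn_of_isQuasicoherent (hAD : AffData J R₀.obj A)
    (M : SheafOfModules.{w} (ringSh R₀)) [h : M.IsQuasicoherent] : IsBCOn A M := by
  obtain ⟨⟨q⟩⟩ := h
  exact isBCOn_of_quasicoherentData hAD M q

end Groth.Agent.H51.QC
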