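import Groth.Agent.H51.QC.EtAff
import Groth.Agent.H51.QC.QCohA

/-!
# Quasi-coherent modules on the small étale site satisfy base change between affine objects
-/

set_option autoImplicit false
set_option backward.isDefEq.respectTransparency false
universe u
open CategoryTheory CategoryTheory.Limits AlgebraicGeometry Opposite
open AlgSp

namespace Groth.Agent.H51.QC

variable {S : Scheme.{u}} {X : Sp S}

theorem isBCOn_modEt (M : ModEt X) [M.IsQuasicoherent] :
    IsBCOn.{u + 1, u, u + 1} (J := etTop X) (R₀ := OEt X)
      (fun E : EtOver X => IsAffine E.obj.left.left) M :=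
  isBCOn_of_isQuasicoherent (affData_etOver X) M

end Groth.Agent.H51.QC
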