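import Groth.Agent.H51.QC.CohOps
import Groth.Agent.H51.QC.EtNoeth
import Groth.Agent.H51.QC.EtQC

/-!
# Coherent modules on the small étale site of a locally Noetherian sheaf
-/

set_option autoImplicit false
set_option backward.isDefEq.respectTransparency false
universe u
open CategoryTheory CategoryTheory.Limits AlgebraicGeometry Opposite
open AlgSp

namespace Groth.Agent.H51.QC

variable {S : Scheme.{u}} {X : Sp S}

theorem et_isFinitePresentation_of_isQuasicoherent_of_isFiniteType (hX : IsLocNoethSp X)
    (M : ModEt X) [M.IsQuasicoherent] [M.IsFiniteType] : M.IsFinitePresentation :=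
  isFinitePresentation_of_isQuasicoherent_of_isFiniteType.{u + 1, u, u + 1}
    (R₀ := OEt X) (affData_etOver X) (isNoetherianRing_OEt_of_isLocNoethSp hX) M

theorem et_isFinitePresentation_kernel_cokernel (hX : IsLocNoethSp X) {M N : ModEt X}
    [M.IsFinitePresentation] [N.IsFinitePresentation] (φ : M ⟶ N) :
    (kernel φ).IsFinitePresentation ∧ (cokernel φ).IsFinitePresentation :=
  isFinitePresentation_kernel_cokernel.{u + 1, u, u + 1}
    (R₀ := OEt X) (affData_etOver X) (isNoetherianRing_OEt_of_isLocNoethSp hX) φ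

theorem et_isFinitePresentation_of_mono (hX : IsLocNoethSp X) {M N : ModEt X}
    [M.IsFinitePresentation] (ι : N ⟶ M) [Mono ι] [N.IsQuasicoherent] :
    N.IsFinitePresentation :=
  isFinitePresentation_of_mono.{u + 1, u, u + 1}
    (R₀ := OEt X) (affData_etOver X) (isNoetherianRing_OEt_of_isLocNoethSp hX) ι
    (isBCOn_modEt N)

theorem et_isFinitePresentation_of_epi (hX : IsLocNoethSp X) {M Q : ModEt X}
    [M.IsFinitePresentation] (π : M ⟶ Q) [Epi π] [Q.IsQuasicoherent] :
    Q.IsFinitePresentation :=
  isFinitePresentation_of_epi.{u + 1, u, u + 1}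
    (R₀ := OEt X) (affData_etOver X) (isNoetherianRing_OEt_of_isLocNoethSp hX) π
    (isBCOn_modEt Q)

end Groth.Agent.H51.QC
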