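import Groth.Agent.H51.QC.ACC
import Groth.Agent.H51.QC.EtCoh

/-!
# ACC for quasi-coherent submodules of a coherent module on a Noetherian algebraic space
-/

set_option autoImplicit false
set_option backward.isDefEq.respectTransparency false
universe u
open CategoryTheory CategoryTheory.Limits AlgebraicGeometry Opposite
open AlgSp

namespace Groth.Agent.H51.QC

variable {S : Scheme.{u}} {X : Sp S}

open Groth.Agent.H60.AlgSpQC in
/-- a quasi-compact sheaf is covered by finitely many affine objects of its small étale site -/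
theorem top_affine (hqc : IsQuasiCompactSp X) : ∃ (n : ℕ) (E : Fin n → EtOver X),
    (∀ k, IsAffine (E k).obj.left.left) ∧ (etTop X).CoversTop E := by
  obtain ⟨U, p, hp, hsurj, hU⟩ := hqc
  have : CompactSpace ↥U.left := hU
  let U' : EtOver X := EtOver.mk p hp
  let 𝒰 := U.left.affineCover.finiteSubcover
  let e : 𝒰.I₀ ≃ Fin (Fintype.card 𝒰.I₀) := Fintype.equivFin 𝒰.I₀
  let V : 𝒰.I₀ → U'.obj.left.left.Etale := fun i => Scheme.Etale.mk (𝒰.f i)
  refine ⟨Fintype.card 𝒰.I₀, fun k => sub U' (V (e.symm k)), fun k => ?_, fun Y => ?_⟩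
  · show IsAffine (𝒰.X (e.symm k))
    infer_instance
  · rw [mem_etTop_iff]
    intro x
    have hs : Surjective (EtOver.prodFst Y U').hom.left.left :=
      hsurj.2 Y.obj.hom _ _ (U'.property.1.isPullback Y.obj.hom)
    obtain ⟨w, hw⟩ := hs.surj x
    obtain ⟨i, v, hv⟩ := 𝒰.exists_eq ((EtOver.prodSnd Y U').hom.left.left w)
    obtain ⟨k, rfl⟩ := e.symm.surjective i
    have sq := (EtOver.isPullback (EtOver.prodSnd Y U') (subι U' (V (e.symm k)))).map
      (EtOver.toScheme X)
    obtain ⟨z, hz1, hz2⟩ := Scheme.exists_preimage_of_isPullback sq w v hv.symm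
    refine ⟨_, EtOver.pullbackFst _ _ ≫ EtOver.prodFst Y U', ⟨k, ⟨EtOver.pullbackSnd _ _⟩⟩, z, ?_⟩
    exact (congrArg (fun t => (EtOver.prodFst Y U').hom.left.left t) hz1).trans hw

theorem et_acc_subobjects (hqc : IsQuasiCompactSp X) (hN : IsLocNoethSp X)
    (M : ModEt X) [M.IsFinitePresentation] (N : ℕ →o Subobject M)
    (hq : ∀ n, (Subobject.underlying.obj (N n)).IsQuasicoherent) :
    ∃ n, ∀ m, n ≤ m → N m = N n := by
  obtain ⟨n, E, hE, hcov⟩ := top_affine hqc
  exact acc_subobjects.{u + 1, u, u + 1} (R₀ := OEt X) (affData_etOver X)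
    (isNoetherianRing_OEt_of_isLocNoethSp hN) M E hE hcov N
    (fun i => haveI := hq i; isBCOn_modEt _)

end Groth.Agent.H51.QC
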