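import Groth.Agent.H51.QC.FamGlue

/-!
# Transport of `RingPushout` along ring isomorphisms
-/

set_option autoImplicit false
open TensorProduct

namespace Groth.Agent.H51.QC

theorem RingPushout.of_equiv {A B B' C A₁ B₁ B'₁ C₁ : Type*}
    [CommRing A] [CommRing B] [CommRing B'] [CommRing C]
    [CommRing A₁] [CommRing B₁] [CommRing B'₁] [CommRing C₁]
    {φ : A →+* B} {φ' : A →+* B'} {α : B →+* C} {β : B' →+* C}
    {φ₁ : A₁ →+* B₁} {φ'₁ : A₁ →+* B'₁} {α₁ : B₁ →+* C₁} {β₁ : B'₁ →+* C₁}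
    (eA : A₁ ≃+* A) (eB : B₁ ≃+* B) (eB' : B'₁ ≃+* B') (eC : C₁ ≃+* C)
    (hφ : ∀ a, eB (φ₁ a) = φ (eA a)) (hφ' : ∀ a, eB' (φ'₁ a) = φ' (eA a))
    (hα : ∀ b, eC (α₁ b) = α (eB b)) (hβ : ∀ b, eC (β₁ b) = β (eB' b))
    (h : RingPushout φ φ' α β) : RingPushout φ₁ φ'₁ α₁ β₁ := by
  obtain ⟨w, hbij⟩ := h
  have w₁ : α₁.comp φ₁ = β₁.comp φ'₁ := by
    ext a
    apply eC.injective
    change eC (α₁ (φ₁ a)) = eC (β₁ (φ'₁ a))
    rw [hα, hφ, hβ, hφ']
    exact RingHom.congr_fun w (eA a)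
  refine ⟨w₁, ?_⟩
  letI := φ.toAlgebra
  letI := φ'.toAlgebra
  letI := (α.comp φ).toAlgebra
  letI := φ₁.toAlgebra
  letI := φ'₁.toAlgebra
  letI := (α₁.comp φ₁).toAlgebra
  have hsA : ∀ (a : A) (b : B), a • b = φ a * b := fun a b => rfl
  have hsA' : ∀ (a : A) (b : B'), a • b = φ' a * b := fun a b => rfl
  have hsA₁ : ∀ (a : A₁) (b : B₁), a • b = φ₁ a * b := fun a b => rfl
  have hsA'₁ : ∀ (a : A₁) (b : B'₁), a • b = φ'₁ a * b := fun a b => rfl
  let F : B₁ ⊗[A₁] B'₁ →+ B ⊗[A] B' := TensorProduct.liftAddHom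
    (AddMonoidHom.mk' (fun b => AddMonoidHom.mk' (fun b' => eB b ⊗ₜ[A] eB' b')
      (fun x y => by rw [map_add, TensorProduct.tmul_add]))
      (fun x y => by
        ext b'
        simp only [AddMonoidHom.mk'_apply, AddMonoidHom.add_apply]
        rw [map_add, TensorProduct.add_tmul])) (by
    intro r b b'
    change (eB (r • b)) ⊗ₜ[A] (eB' b') = (eB b) ⊗ₜ[A] (eB' (r • b'))
    rw [hsA₁, hsA'₁, map_mul, map_mul, hφ, hφ', ← hsA, ← hsA', TensorProduct.smul_tmul])
  have hF : ∀ b b', F (b ⊗ₜ b') = eB b ⊗ₜ eB' b' := fun b b' => rfl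
  let G : B ⊗[A] B' →+ B₁ ⊗[A₁] B'₁ := TensorProduct.liftAddHom
    (AddMonoidHom.mk' (fun b => AddMonoidHom.mk' (fun b' => eB.symm b ⊗ₜ[A₁] eB'.symm b')
      (fun x y => by rw [map_add, TensorProduct.tmul_add]))
      (fun x y => by
        ext b'
        simp only [AddMonoidHom.mk'_apply, AddMonoidHom.add_apply]
        rw [map_add, TensorProduct.add_tmul])) (by
    intro r b b'
    change (eB.symm (r • b)) ⊗ₜ[A₁] (eB'.symm b') = (eB.symm b) ⊗ₜ[A₁] (eB'.symm (r • b'))
    have e1 : eB.symm (r • b) = (eA.symm r) • eB.symm b := by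
      apply eB.injective
      rw [hsA₁, map_mul, hφ, RingEquiv.apply_symm_apply, RingEquiv.apply_symm_apply,
        RingEquiv.apply_symm_apply, hsA]
    have e2 : eB'.symm (r • b') = (eA.symm r) • eB'.symm b' := by
      apply eB'.injective
      rw [hsA'₁, map_mul, hφ', RingEquiv.apply_symm_apply, RingEquiv.apply_symm_apply,
        RingEquiv.apply_symm_apply, hsA']
    rw [e1, e2, TensorProduct.smul_tmul])
  have hG : ∀ b b', G (b ⊗ₜ b') = eB.symm b ⊗ₜ eB'.symm b' := fun b b' => rfl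
  have hGF : ∀ x, G (F x) = x := by
    intro x
    induction x using TensorProduct.induction_on with
    | zero => simp
    | tmul b b' => rw [hF, hG, RingEquiv.symm_apply_apply, RingEquiv.symm_apply_apply]
    | add x y hx hy => rw [map_add, map_add, hx, hy]
  have hFG : ∀ x, F (G x) = x := by
    intro x
    induction x using TensorProduct.induction_on with
    | zero => simp
    | tmul b b' => rw [hG, hF, RingEquiv.apply_symm_apply, RingEquiv.apply_symm_apply]
    | add x y hx hy => rw [map_add, map_add, hx, hy]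
  have key : ∀ x, eC (Algebra.TensorProduct.productMap
      ({ α₁ with commutes' := fun _ => rfl } : B₁ →ₐ[A₁] C₁)
      ({ β₁ with commutes' := fun a => (RingHom.congr_fun w₁ a).symm } : B'₁ →ₐ[A₁] C₁) x) =
      Algebra.TensorProduct.productMap
      ({ α with commutes' := fun _ => rfl } : B →ₐ[A] C)
      ({ β with commutes' := fun a => (RingHom.congr_fun w a).symm } : B' →ₐ[A] C) (F x) := by
    intro x
    induction x using TensorProduct.induction_on with
    | zero => simp
    | tmul b b' =>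
      rw [hF, Algebra.TensorProduct.productMap_apply_tmul, Algebra.TensorProduct.productMap_apply_tmul,
        map_mul]
      exact congrArg₂ (· * ·) (hα b) (hβ b')
    | add x y hx hy => rw [map_add, map_add, map_add, map_add, hx, hy]
  constructor
  · intro x y hxy
    have := congrArg eC hxy
    rw [key, key] at this
    have h2 := hbij.1 this
    rw [← hGF x, ← hGF y, h2]
  · intro c
    obtain ⟨z, hz⟩ := hbij.2 (eC c)
    refine ⟨G z, ?_⟩
    apply eC.injective
    rw [key, hFG, hz]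

end Groth.Agent.H51.QC
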