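import Groth.Agent.H51.QC.AffData
import Groth.Agent.H51.QC.PushoutEquiv
import Groth.Agent.H60.AlgSpQC

/-!
# The small étale site of a sheaf with its affine objects satisfies `AffData`
-/

set_option autoImplicit false
set_option backward.isDefEq.respectTransparency false
universe u
open CategoryTheory CategoryTheory.Limits AlgebraicGeometry Opposite
open AlgSp

namespace Groth.Agent.H51.QC

variable {S : Scheme.{u}} {X : Sp S}

theorem OEt_map_hom {E E' : EtOver X} (g : E ⟶ E') :
    ((OEt X).obj.map g.op).hom =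
      ((ULift.ringEquiv.{u, u + 1}.symm : Γ(E.obj.left.left, ⊤) ≃+* _).toRingHom.comp
        g.hom.left.left.appTop.hom).comp
        (ULift.ringEquiv.{u, u + 1} : ULift.{u + 1} Γ(E'.obj.left.left, ⊤) ≃+* _).toRingHom := rfl

theorem isAffine_of_isPullback_etOver {P U U' V : EtOver X} {a : P ⟶ U} {b : P ⟶ U'}
    {f : U ⟶ V} {g : U' ⟶ V} (h : IsPullback a b f g) (hU : IsAffine U.obj.left.left)
    (hU' : IsAffine U'.obj.left.left) (hV : IsAffine V.obj.left.left) :
    IsAffine P.obj.left.left := by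
  have sq := h.map (EtOver.toScheme X)
  haveI : IsAffine ((EtOver.toScheme X).obj U) := hU
  haveI : IsAffine ((EtOver.toScheme X).obj U') := hU'
  haveI : IsAffine ((EtOver.toScheme X).obj V) := hV
  exact IsAffine.of_isPullback sq

theorem flat_OEt_map {U V : EtOver X} (f : U ⟶ V) (hU : IsAffine U.obj.left.left)
    (hV : IsAffine V.obj.left.left) : ((OEt X).obj.map f.op).hom.Flat := by
  haveI := EtOver.etale_left f
  rw [OEt_map_hom]
  refine RingHom.Flat.comp (RingHom.Flat.of_bijective (RingEquiv.bijective _)) ?_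
  refine RingHom.Flat.comp ?_ (RingHom.Flat.of_bijective (RingEquiv.bijective _))
  exact Scheme.Hom.flat_appTop f.hom.left.left

theorem ringPushout_of_isPushout {A B B' C : CommRingCat.{u}} {φ : A ⟶ B} {φ' : A ⟶ B'}
    {α : B ⟶ C} {β : B' ⟶ C} (h : IsPushout φ φ' α β) :
    RingPushout φ.hom φ'.hom α.hom β.hom := by
  have w : α.hom.comp φ.hom = β.hom.comp φ'.hom := by
    have := h.w
    ext a
    exact congrArg (fun k => k.hom a) this
  refine ⟨w, ?_⟩
  letI := φ.hom.toAlgebra
  letI := φ'.hom.toAlgebra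
  letI := α.hom.toAlgebra
  letI := β.hom.toAlgebra
  letI := (α.hom.comp φ.hom).toAlgebra
  haveI : IsScalarTower A B C := IsScalarTower.of_algebraMap_eq fun _ => rfl
  haveI : IsScalarTower A B' C := IsScalarTower.of_algebraMap_eq fun a => RingHom.congr_fun w a
  have hP : Algebra.IsPushout A B B' C := by
    rw [← CommRingCat.isPushout_iff_isPushout]
    exact h
  have e : ⇑(Algebra.TensorProduct.productMap
      ({ α.hom with commutes' := fun _ => rfl } : B →ₐ[A] C)
      ({ β.hom with commutes' := fun a => (RingHom.congr_fun w a).symm } : B' →ₐ[A] C)) =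
      ⇑(Algebra.IsPushout.equiv A B B' C) := by
    funext x
    induction x using TensorProduct.induction_on with
    | zero => simp
    | tmul b b' =>
      rw [Algebra.TensorProduct.productMap_apply_tmul, Algebra.IsPushout.equiv_tmul]
      rfl
    | add x y hx hy => rw [map_add, map_add, hx, hy]
  rw [e]
  exact (Algebra.IsPushout.equiv A B B' C).bijective

theorem pushout_OEt {P U U' V : EtOver X} {a : P ⟶ U} {b : P ⟶ U'}
    {f : U ⟶ V} {g : U' ⟶ V} (h : IsPullback a b f g) (hU : IsAffine U.obj.left.left)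
    (hU' : IsAffine U'.obj.left.left) (hV : IsAffine V.obj.left.left) :
    RingPushout ((OEt X).obj.map f.op).hom ((OEt X).obj.map g.op).hom
      ((OEt X).obj.map a.op).hom ((OEt X).obj.map b.op).hom := by
  have sq := h.map (EtOver.toScheme X)
  haveI : IsAffine ((EtOver.toScheme X).obj U) := hU
  haveI : IsAffine ((EtOver.toScheme X).obj U') := hU'
  haveI : IsAffine ((EtOver.toScheme X).obj V) := hV
  have po := ringPushout_of_isPushout (isPushout_appTop_of_isPullback sq)
  exact RingPushout.of_equiv ULift.ringEquiv ULift.ringEquiv ULift.ringEquiv ULift.ringEquiv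
    (fun _ => rfl) (fun _ => rfl) (fun _ => rfl) (fun _ => rfl) po

open Groth.Agent.H60.AlgSpQC in
theorem cover_etOver {V : EtOver X} (R : Sieve V) (hV : IsAffine V.obj.left.left)
    (hR : R ∈ etTop X V) :
    ∃ (n : ℕ) (U : Fin n → EtOver X) (g : ∀ k, U k ⟶ V),
      (∀ k, IsAffine (U k).obj.left.left) ∧ (∀ k, R (g k)) ∧ Sieve.ofArrows U g ∈ etTop X V := by
  classical
  choose W g hW hg hx using exists_affine_arrow V R hR
  have hopen : ∀ x, IsOpen (Set.range (g x).hom.left.left) := fun x =>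
    haveI := EtOver.etale_left (g x)
    (g x).hom.left.left.isOpenMap.isOpen_range
  obtain ⟨t, ht⟩ := CompactSpace.elim_nhds_subcover (fun x => Set.range (g x).hom.left.left)
    (fun x => (hopen x).mem_nhds (hx x))
  let e := t.equivFin
  refine ⟨t.card, fun k => W (e.symm k).1, fun k => g (e.symm k).1,
    fun k => hW _, fun k => hg _, ?_⟩
  refine ofArrows_mem_etTop _ _ fun x => ?_
  have hx' : x ∈ ⋃ x0 ∈ t, Set.range (g x0).hom.left.left := by rw [ht]; trivial
  simp only [Set.mem_iUnion] at hx'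
  obtain ⟨x0, hx0, hw⟩ := hx'
  refine ⟨e ⟨x0, hx0⟩, ?_⟩
  rw [Equiv.symm_apply_apply]
  exact hw

open Groth.Agent.H60.AlgSpQC in
theorem coversTop_etOver (E : EtOver X) :
    Sieve.generate (fun (Y : EtOver X) (_ : Y ⟶ E) => IsAffine Y.obj.left.left) ∈ etTop X E := by
  rw [mem_etTop_iff]
  intro x
  let 𝒰 := E.obj.left.left.affineCover
  obtain ⟨w, hw⟩ := 𝒰.covers x
  refine ⟨sub E (Scheme.Etale.mk (𝒰.f (𝒰.idx x))), subι E _, ?_, w, hw⟩
  refine ⟨_, 𝟙 _, subι E _, ?_, Category.id_comp _⟩
  show IsAffine (𝒰.X (𝒰.idx x))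
  infer_instance

open Groth.Agent.H60.AlgSpQC in
theorem surj_etOver {V : EtOver X} {n : ℕ} (U : Fin n → EtOver X) (g : ∀ k, U k ⟶ V)
    (hV : IsAffine V.obj.left.left) (hU : ∀ k, IsAffine (U k).obj.left.left)
    (hcov : Sieve.ofArrows U g ∈ etTop X V) (p : PrimeSpectrum ((OEt X).obj.obj (op V))) :
    ∃ (k : Fin n) (q : PrimeSpectrum ((OEt X).obj.obj (op (U k)))),
      PrimeSpectrum.comap ((OEt X).obj.map (g k).op).hom q = p := by
  let upV : Γ(V.obj.left.left, ⊤) →+* ULift.{u + 1} Γ(V.obj.left.left, ⊤) :=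
    (ULift.ringEquiv.{u, u + 1}.symm : Γ(V.obj.left.left, ⊤) ≃+* _).toRingHom
  let dnV : ULift.{u + 1} Γ(V.obj.left.left, ⊤) →+* Γ(V.obj.left.left, ⊤) :=
    (ULift.ringEquiv.{u, u + 1} : ULift.{u + 1} Γ(V.obj.left.left, ⊤) ≃+* _).toRingHom
  let x : PrimeSpectrum Γ(V.obj.left.left, ⊤) := PrimeSpectrum.comap upV p
  let x' : ↥V.obj.left.left := V.obj.left.left.isoSpec.inv x
  obtain ⟨Y, f, hf, y, hy⟩ := (mem_etTop_iff _).1 hcov x'
  obtain ⟨Z, c, _, ⟨k⟩, hck⟩ := hf
  let y' : ↥(U k).obj.left.left := c.hom.left.left y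
  have hy' : (g k).hom.left.left y' = x' := by
    rw [← hy, ← hck]
    rfl
  let q₀ : PrimeSpectrum Γ((U k).obj.left.left, ⊤) := (U k).obj.left.left.isoSpec.hom y'
  let dnU : ULift.{u + 1} Γ((U k).obj.left.left, ⊤) →+* Γ((U k).obj.left.left, ⊤) :=
    (ULift.ringEquiv.{u, u + 1} : ULift.{u + 1} Γ((U k).obj.left.left, ⊤) ≃+* _).toRingHom
  have hq₀ : PrimeSpectrum.comap (g k).hom.left.left.appTop.hom q₀ = x := by
    have nat := Scheme.isoSpec_hom_naturality (g k).hom.left.left
    have := congrArg (fun φ : (U k).obj.left.left ⟶ _ => φ y') nat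
    change Spec.map _ ((U k).obj.left.left.isoSpec.hom y') =
      V.obj.left.left.isoSpec.hom ((g k).hom.left.left y') at this
    rw [hy'] at this
    change Spec.map _ q₀ = _ at this
    refine this.trans ?_
    change V.obj.left.left.isoSpec.hom (V.obj.left.left.isoSpec.inv x) = x
    rw [← Scheme.Hom.comp_apply, Iso.inv_hom_id]
    rfl
  refine ⟨k, PrimeSpectrum.comap dnU q₀, ?_⟩
  rw [← PrimeSpectrum.comap_comp_apply]
  have e1 : dnU.comp ((OEt X).obj.map (g k).op).hom = (g k).hom.left.left.appTop.hom.comp dnV := by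
    ext s
    rfl
  rw [e1, PrimeSpectrum.comap_comp_apply, hq₀]
  change PrimeSpectrum.comap dnV (PrimeSpectrum.comap upV p) = p
  rw [← PrimeSpectrum.comap_comp_apply]
  have e2 : upV.comp dnV = RingHom.id _ := by
    ext s
    rfl
  rw [e2]
  rfl

/-- The small étale site with its structure sheaf and its affine objects. -/
theorem affData_etOver (X : Sp S) :
    AffData (etTop X) (OEt X).obj (fun E : EtOver X => IsAffine E.obj.left.left) where
  pullback_mem h hU hU' hV := isAffine_of_isPullback_etOver h hU hU' hV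
  flat f hU hV := flat_OEt_map f hU hV
  pushout h hU hU' hV := pushout_OEt h hU hU' hV
  cover R hV hR := cover_etOver R hV hR
  surj U g hV hU hcov p := surj_etOver U g hV hU hcov p
  coversTop E := coversTop_etOver E

end Groth.Agent.H51.QC
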