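import Groth.Agent.H51.QC.EtPushBC
import Groth.Agent.H51.QC.EtCoh

/-!
# Direct images of coherent modules along finite morphisms
-/

set_option autoImplicit false
set_option backward.isDefEq.respectTransparency false
universe u
open CategoryTheory CategoryTheory.Limits AlgebraicGeometry Opposite
open AlgSp

namespace Groth.Agent.H51.QC

variable {S : Scheme.{u}} {X Y : Sp S} {f : X ⟶ Y} (hf : AlgSp.Representable f)

theorem isAffineMor_of_isFiniteMor (hfin : AlgSp.IsFiniteMor f) : AlgSp.IsAffineMor f := by
  intro Z hZ g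
  obtain ⟨W, i, fst, hpb, hW, -⟩ := hfin hZ g
  exact ⟨W, i, fst, hpb, hW⟩

/-- The projection `X ×_Y V ⟶ V` is finite for affine `V`. -/
theorem isFinite_bcπ_of_isAffine (hfin : AlgSp.IsFiniteMor f) (V : EtOver Y)
    (hV : IsAffine V.obj.left.left) : IsFinite (hf.snd V.obj.hom).left := by
  obtain ⟨W, i, fst, hpb, -, hi⟩ := hfin hV V.obj.hom
  have hpb' := hf.isPullback V.obj.hom
  let e := hpb'.isoIsPullback _ _ hpb
  have he : e.hom ≫ (yon S).map i = (yon S).map (hf.snd V.obj.hom) :=
    hpb'.isoIsPullback_hom_snd _ _ hpb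
  let e₀ : hf.pullback V.obj.hom ≅ W := (yon S).preimageIso e
  have he₀ : e₀.hom ≫ i = hf.snd V.obj.hom := by
    apply (yon S).map_injective
    rw [Functor.map_comp]
    change (yon S).map ((yon S).preimage e.hom) ≫ _ = _
    rw [Functor.map_preimage]
    exact he
  have hleft : (hf.snd V.obj.hom).left = e₀.hom.left ≫ i.left := by
    rw [← he₀]; rfl
  haveI : IsIso e₀.hom.left := (Over.forget S).map_isIso e₀.hom
  rw [hleft]
  infer_instance

theorem finite_bcRing (hfin : AlgSp.IsFiniteMor f) (E : EtOver Y)
    (hE : IsAffine E.obj.left.left) : (bcRing hf E).Finite := by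
  haveI : IsAffine E.obj.left.left := hE
  have h1 := isFinite_bcπ_of_isAffine hf hfin E hE
  have h2 : RingHom.Finite (hf.snd E.obj.hom).left.appTop.hom :=
    ((HasAffineProperty.iff_of_isAffine (P := @IsFinite)).mp h1).2
  unfold bcRing
  refine RingHom.Finite.comp ?_ ?_
  · refine RingHom.Finite.comp ?_ h2
    exact RingHom.Finite.of_surjective _ (RingEquiv.surjective _)
  · exact RingHom.Finite.of_surjective _ (RingEquiv.surjective _)

end Groth.Agent.H51.QC

namespace Groth.Agent.H51.QC

variable {S : Scheme.{u}} {X Y : Sp S} {f : X ⟶ Y} (hf : AlgSp.Representable f)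

/-- sections of the direct image along a finite morphism of a module with finite sections on
affine objects are finite -/
theorem finite_sections_pushModEt (hfin : AlgSp.IsFiniteMor f) (M : ModEt X)
    (hM : ∀ E : EtOver X, IsAffine E.obj.left.left →
      Module.Finite ((OEt X).obj.obj (op E)) (M.val.obj (op E)))
    (E : EtOver Y) (hE : IsAffine E.obj.left.left) :
    Module.Finite ((OEt Y).obj.obj (op E)) (((pushModEt hf).obj M).val.obj (op E)) := by
  have hP := isAffine_bc_of_isAffineMor hf (isAffineMor_of_isFiniteMor hfin) E hE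
  have h1 := hM _ hP
  have h2 := finite_bcRing hf hfin E hE
  letI := (bcRing hf E).toAlgebra
  letI : Module ((OEt Y).obj.obj (op E)) (M.val.obj (op ((EtOver.bc hf).obj E))) :=
    Module.compHom _ (bcRing hf E)
  haveI : IsScalarTower ((OEt Y).obj.obj (op E)) ((OEt X).obj.obj (op ((EtOver.bc hf).obj E)))
      (M.val.obj (op ((EtOver.bc hf).obj E))) :=
    IsScalarTower.of_algebraMap_smul fun _ _ => rfl
  haveI : Module.Finite ((OEt Y).obj.obj (op E))
    ((OEt X).obj.obj (op ((EtOver.bc hf).obj E))) := h2
  haveI := h1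
  exact Module.Finite.trans ((OEt X).obj.obj (op ((EtOver.bc hf).obj E)))
    (M.val.obj (op ((EtOver.bc hf).obj E)))

/-- **Direct image of a coherent module along a finite morphism to a locally Noetherian
target is coherent.** -/
theorem pushModEt_isFinitePresentation_of_isFiniteMor (hfin : AlgSp.IsFiniteMor f)
    (hY : AlgSp.IsLocNoethSp Y) (M : ModEt X) [M.IsFinitePresentation] :
    ((pushModEt hf).obj M).IsFinitePresentation := by
  refine isFinitePresentation_of_finite_sections.{u + 1, u, u + 1} (R₀ := OEt Y)
    (affData_etOver Y) _ (isBCOn_pushModEt hf (isAffineMor_of_isFiniteMor hfin) M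
      (isBCOn_modEt M)) (isNoetherianRing_OEt_of_isLocNoethSp hY) ?_
  intro E hE
  exact finite_sections_pushModEt hf hfin M
    (fun E' hE' => finite_sections_of_isFinitePresentation.{u + 1, u, u + 1} (R₀ := OEt X)
      (affData_etOver X) M hE') E hE

end Groth.Agent.H51.QC
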