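import Groth.Agent.H51.QC.FamCancel

/-!
# Base change for a module regarded over another ring through a pushout square
-/

set_option autoImplicit false
universe u
open TensorProduct

namespace Groth.Agent.H51.QC

variable {A B B' C : Type u} [CommRing A] [CommRing B] [CommRing B'] [CommRing C]
  {φ : A →+* B} {φ' : A →+* B'} {α : B →+* C} {β : B' →+* C}
  {N' : Type u} [AddCommGroup N'] [Module B' N'] {Y : Type u} [AddCommGroup Y] [Module C Y]
  {N'' : Type u} [AddCommGroup N''] [Module A N''] {Y'' : Type u} [AddCommGroup Y'']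
  [Module B Y'']

/-- If `C` is the pushout of `B ← A → B'`, a base change map over `B' → C` is also a base change
map over `A → B` for the restricted module structures. -/
theorem SemiBC.of_pushout (hpo : RingPushout φ φ' α β) (s : N' →ₛₗ[β] Y) (hs : SemiBC β s)
    (eN : N'' ≃+ N') (eY : Y'' ≃+ Y) (hN : ∀ (a : A) (n : N''), eN (a • n) = φ' a • eN n)
    (hY : ∀ (b : B) (y : Y''), eY (b • y) = α b • eY y)
    (s'' : N'' →ₛₗ[φ] Y'') (hs'' : ∀ n, eY (s'' n) = s (eN n)) : SemiBC φ s'' := by
  obtain ⟨Ψ, hΨbij, hΨ⟩ := pb_bijective hpo s hs (α.comp φ) rfl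
  unfold SemiBC
  letI := φ.toAlgebra
  letI : Module A N' := Module.compHom N' φ'
  letI : Module A Y := Module.compHom Y (α.comp φ)
  letI : Module A Y'' := Module.compHom Y'' φ
  haveI : IsScalarTower A B Y'' := IsScalarTower.of_algebraMap_smul fun _ _ => rfl
  change IsBaseChange B (semiToLin φ s'')
  rw [isBaseChange_iff_bijective_lift]
  let eN' : N'' ≃ₗ[A] N' :=
    { eN with
      map_smul' := fun a n => hN a n }
  have key : ∀ x : B ⊗[A] N'', eY ((semiToLin φ s'').liftBaseChange B x) =
      Ψ (LinearEquiv.lTensor B eN' x) := by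
    intro x
    induction x using TensorProduct.induction_on with
    | zero => simp
    | tmul b n =>
      rw [LinearMap.liftBaseChange_tmul, LinearEquiv.lTensor_tmul, hΨ, hY, semiToLin_apply, hs'']
      rfl
    | add x y hx hy => simp only [map_add, hx, hy]
  have e : ⇑((semiToLin φ s'').liftBaseChange B) =
      ⇑eY.symm ∘ ⇑Ψ ∘ ⇑(LinearEquiv.lTensor B eN') := by
    funext x
    simp only [Function.comp_apply]
    rw [← key, AddEquiv.symm_apply_apply]
  rw [e]
  exact eY.symm.bijective.comp (hΨbij.comp (LinearEquiv.bijective _))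

end Groth.Agent.H51.QC
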