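import Groth.Agent.H51.QC.PresBC
import Groth.Agent.H51.QC.QCohA

/-!
# Theorem A′: a sheaf of modules satisfying base change between affine objects is quasi-coherent
-/

set_option autoImplicit false
universe w v₁ u₁
open CategoryTheory Limits Opposite

namespace Groth.Agent.H51.QC

variable {C : Type u₁} [Category.{v₁} C] {J : GrothendieckTopology C}
  [J.HasSheafCompose (forget₂ CommRingCat.{w} RingCat.{w})] {R₀ : Sheaf J CommRingCat.{w}}
  [HasSheafify J AddCommGrpCat.{w}] [J.WEqualsLocallyBijective AddCommGrpCat.{w}]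
  [∀ X : C, (J.over X).HasSheafCompose (forget₂ CommRingCat.{w} RingCat.{w})]
  [∀ X : C, HasSheafify (J.over X) AddCommGrpCat.{w}]
  [∀ X : C, (J.over X).WEqualsLocallyBijective AddCommGrpCat.{w}]
  {A : C → Prop} [HasPullbacks C]

theorem isBCOn_over (M : SheafOfModules.{w} (ringSh R₀)) (hM : IsBCOn A M) (E : C) :
    IsBCOn (R₀ := R₀.over E) (fun Y : Over E => A Y.left) (M.over E) := by
  intro U V f hU hV
  have h1 := (isBCAt_iff_semiBC _ _ _).mp (hM f.left hU hV)
  rw [isBCAt_iff_semiBC]
  exact (SemiBC.congr rfl (fun m => rfl)).mp h1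

/-- the presentation of the restriction of `M` to the slice over an affine object -/
noncomputable def presentationOverOfIsBC (hAD : AffData J R₀.obj A)
    (M : SheafOfModules.{w} (ringSh R₀)) (hM : IsBCOn A M) (E : C) (hE : A E) :
    (M.over E).Presentation :=
  presentationOfIsBC (R₀ := R₀.over E) (hAD.over E) (T := Over.mk (𝟙 E)) Over.mkIdTerminal hE
    (M.over E) (isBCOn_over M hM E)

/-- **Theorem A′.** -/
noncomputable def quasicoherentDataOfIsBC (hAD : AffData J R₀.obj A)
    (M : SheafOfModules.{w} (ringSh R₀)) (hM : IsBCOn A M) : M.QuasicoherentData.{u₁} where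
  I := {E : C // A E}
  X := Subtype.val
  coversTop W := by
    refine J.superset_covering ?_ (hAD.coversTop W)
    rw [Sieve.generate_le_iff]
    intro Y g hY
    exact ⟨⟨Y, hY⟩, ⟨𝟙 _⟩⟩
  presentation E := presentationOverOfIsBC hAD M hM E.1 E.2

theorem isQuasicoherent_of_isBCOn (hAD : AffData J R₀.obj A)
    (M : SheafOfModules.{w} (ringSh R₀)) (hM : IsBCOn A M) : M.IsQuasicoherent :=
  ⟨⟨quasicoherentDataOfIsBC hAD M hM⟩⟩

theorem isQuasicoherent_iff_isBCOn (hAD : AffData J R₀.obj A)
    (M : SheafOfModules.{w} (ringSh R₀)) : M.IsQuasicoherent ↔ IsBCOn A M :=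
  ⟨fun _ => isBCOn_of_isQuasicoherent hAD M, isQuasicoherent_of_isBCOn hAD M⟩

end Groth.Agent.H51.QC
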