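import Groth.Agent.H51.QC.EtQC
import Groth.Agent.H51.QC.PushBC
import Groth.Agent.H51.QC.QCohAprime
import Groth.Prelude.Def_AlgSpOX2
import Groth.Prelude.Def_AlgSp3

/-!
# Direct images of quasi-coherent modules along affine representable morphisms
-/

set_option autoImplicit false
set_option backward.isDefEq.respectTransparency false
universe u
open CategoryTheory CategoryTheory.Limits AlgebraicGeometry Opposite
open AlgSp

namespace Groth.Agent.H51.QC

variable {S : Scheme.{u}} {X Y : Sp S} {f : X ⟶ Y} (hf : AlgSp.Representable f)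

/-- the base change of an affine object along an affine morphism is affine -/
theorem isAffine_bc_of_isAffineMor (haff : AlgSp.IsAffineMor f) (E : EtOver Y)
    (hE : IsAffine E.obj.left.left) : IsAffine ((EtOver.bc hf).obj E).obj.left.left := by
  obtain ⟨W, i, fst, hpb, hW⟩ := haff hE E.obj.hom
  have hpb' := hf.isPullback E.obj.hom
  let e := hpb'.isoIsPullback _ _ hpb
  let e₀ : hf.pullback E.obj.hom ≅ W := (yon S).preimageIso e
  haveI : IsIso e₀.hom.left := (Over.forget S).map_isIso e₀.hom
  haveI : IsAffine W.left := hW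
  exact IsAffine.of_isIso e₀.hom.left

/-- the comparison of structure sheaves on sections, in terms of global functions -/
theorem bcRingHom_app_hom (E : EtOver Y) :
    ((bcRingHom hf).hom.app (op E)).hom =
      ((ULift.ringEquiv.{u, u + 1}.symm :
        Γ(((EtOver.bc hf).obj E).obj.left.left, ⊤) ≃+* _).toRingHom.comp
        (hf.snd E.obj.hom).left.appTop.hom).comp
        (ULift.ringEquiv.{u, u + 1} : ULift.{u + 1} Γ(E.obj.left.left, ⊤) ≃+* _).toRingHom := rfl

/-- the comparison ring homomorphism `O_Y(E) → O_X(E ×_Y X)` between commutative rings -/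
noncomputable def bcRing (E : EtOver Y) :
    (OEt Y).obj.obj (op E) →+* (OEt X).obj.obj (op ((EtOver.bc hf).obj E)) :=
  ((ULift.ringEquiv.{u, u + 1}.symm :
        Γ(((EtOver.bc hf).obj E).obj.left.left, ⊤) ≃+* _).toRingHom.comp
        (hf.snd E.obj.hom).left.appTop.hom).comp
        (ULift.ringEquiv.{u, u + 1} : ULift.{u + 1} Γ(E.obj.left.left, ⊤) ≃+* _).toRingHom

theorem bcRing_apply (E : EtOver Y) (r : (OEt Y).obj.obj (op E)) :
    bcRing hf E r = ((bcRingHom hf).hom.app (op E)).hom r := rfl

/-- the square of rings of a base-changed morphism between affine objects is a pushout -/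
theorem pushout_bc {E E' : EtOver Y} (g : E ⟶ E') (hE : IsAffine E.obj.left.left)
    (hE' : IsAffine E'.obj.left.left)
    (hP' : IsAffine ((EtOver.bc hf).obj E').obj.left.left) :
    RingPushout ((OEt Y).obj.map g.op).hom (bcRing hf E') (bcRing hf E)
      ((OEt X).obj.map ((EtOver.bc hf).map g).op).hom := by
  have sq := (EtOver.isPullback_bcMap_left hf g).flip
  haveI : IsAffine E.obj.left.left := hE
  haveI : IsAffine E'.obj.left.left := hE'
  haveI : IsAffine (EtOver.bcObj hf E').obj.left.left := hP'
  have po := ringPushout_of_isPushout (isPushout_appTop_of_isPullback sq)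
  exact RingPushout.of_equiv ULift.ringEquiv ULift.ringEquiv ULift.ringEquiv ULift.ringEquiv
    (fun _ => rfl) (fun _ => rfl) (fun _ => rfl) (fun _ => rfl) po

end Groth.Agent.H51.QC
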