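import Groth.Agent.H51.QC.EtPush

/-!
# Direct images of base-change modules along affine morphisms satisfy base change
-/

set_option autoImplicit false
set_option backward.isDefEq.respectTransparency false
universe u
open CategoryTheory CategoryTheory.Limits AlgebraicGeometry Opposite
open AlgSp

namespace Groth.Agent.H51.QC

variable {S : Scheme.{u}} {X Y : Sp S} {f : X ⟶ Y} (hf : AlgSp.Representable f)

theorem semiBC_pushModEt (haff : AlgSp.IsAffineMor f) (F : ModEt X)
    (hF : IsBCOn.{u + 1, u, u + 1} (J := etTop X) (R₀ := OEt X)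
      (fun E : EtOver X => IsAffine E.obj.left.left) F)
    {E E' : EtOver Y} (g : E ⟶ E') (hE : IsAffine E.obj.left.left)
    (hE' : IsAffine E'.obj.left.left) :
    SemiBC ((OEt Y).obj.map g.op).hom (resSL (OEt Y).obj ((pushModEt hf).obj F).val g.op) := by
  have hP := isAffine_bc_of_isAffineMor hf haff E hE
  have hP' := isAffine_bc_of_isAffineMor hf haff E' hE'
  have hF' := (isBCOn_iff_semiBC.{u + 1, u, u + 1} (J := etTop X) (R₀ := OEt X)
    (A := fun E : EtOver X => IsAffine E.obj.left.left) F).mp hF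
    ((EtOver.bc hf).map g) hP hP'
  exact SemiBC.of_pushout (N'' := ((pushModEt hf).obj F).val.obj (op E'))
    (Y'' := ((pushModEt hf).obj F).val.obj (op E)) (N' := F.val.obj (op ((EtOver.bc hf).obj E')))
    (Y := F.val.obj (op ((EtOver.bc hf).obj E))) (pushout_bc hf g hE hE' hP')
    (resSL (OEt X).obj F.val ((EtOver.bc hf).map g).op) hF' (AddEquiv.refl _) (AddEquiv.refl _)
    (fun a n => rfl) (fun b y => rfl) _ (fun n => rfl)

theorem isBCOn_pushModEt (haff : AlgSp.IsAffineMor f) (F : ModEt X)
    (hF : IsBCOn.{u + 1, u, u + 1} (J := etTop X) (R₀ := OEt X)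
      (fun E : EtOver X => IsAffine E.obj.left.left) F) :
    IsBCOn.{u + 1, u, u + 1} (J := etTop Y) (R₀ := OEt Y)
      (fun E : EtOver Y => IsAffine E.obj.left.left) ((pushModEt hf).obj F) :=
  (isBCOn_iff_semiBC.{u + 1, u, u + 1} (J := etTop Y) (R₀ := OEt Y)
    (A := fun E : EtOver Y => IsAffine E.obj.left.left) _).mpr
    (fun g hE hE' => semiBC_pushModEt hf haff F hF g hE hE')

end Groth.Agent.H51.QC
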