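import Groth.Agent.H75.Amitsur0

/-!
# Faithfully flat descent (degree zero) for a finite jointly surjective family of flat algebras
-/

set_option autoImplicit false
universe u
open TensorProduct

namespace Groth.Agent.H51.QC

section Pi

variable {A : Type u} [CommRing A] {ι : Type} [Fintype ι] [DecidableEq ι]
  (B : ι → Type u) [∀ k, CommRing (B k)] [∀ k, Algebra A (B k)]

theorem flat_pi [∀ k, Module.Flat A (B k)] : Module.Flat A (∀ k, B k) :=
  Module.Flat.of_linearEquiv (DirectSum.linearEquivFunOnFintype A ι B).symm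

theorem faithfullyFlat_pi [∀ k, Module.Flat A (B k)]
    (hsurj : ∀ p : PrimeSpectrum A, ∃ (k : ι) (q : PrimeSpectrum (B k)),
      PrimeSpectrum.comap (algebraMap A (B k)) q = p) :
    Module.FaithfullyFlat A (∀ k, B k) := by
  haveI := flat_pi (A := A) B
  refine Module.FaithfullyFlat.of_comap_surjective fun p => ?_
  obtain ⟨k, q, hq⟩ := hsurj p
  refine ⟨PrimeSpectrum.comap (Pi.evalRingHom B k) q, ?_⟩
  rw [← hq]
  rw [← PrimeSpectrum.comap_comp_apply]
  rfl

end Pi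



section TFA

variable {A : Type u} [CommRing A] {ι : Type} [Fintype ι] [DecidableEq ι]
  (B : ι → Type u) [∀ k, CommRing (B k)] [∀ k, Algebra A (B k)]
  (N : Type u) [AddCommGroup N] [Module A N]

/-- `B_k ⊗ N → (B_k ⊗ B_l) ⊗ N` through the left factor -/
noncomputable def famInl (k l : ι) : B k ⊗[A] N →ₗ[A] (B k ⊗[A] B l) ⊗[A] N :=
  LinearMap.rTensor N (Algebra.TensorProduct.includeLeft : B k →ₐ[A] B k ⊗[A] B l).toLinearMap

/-- `B_l ⊗ N → (B_k ⊗ B_l) ⊗ N` through the right factor -/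
noncomputable def famInr (k l : ι) : B l ⊗[A] N →ₗ[A] (B k ⊗[A] B l) ⊗[A] N :=
  LinearMap.rTensor N (Algebra.TensorProduct.includeRight : B l →ₐ[A] B k ⊗[A] B l).toLinearMap

/-- the `k`-th projection `(∏ B) ⊗ N → B_k ⊗ N` -/
noncomputable def famPr (k : ι) : (∀ k, B k) ⊗[A] N →ₗ[A] B k ⊗[A] N :=
  LinearMap.rTensor N (LinearMap.proj k)

theorem piLeft_apply_eq (x : (∀ k, B k) ⊗[A] N) (k : ι) :
    TensorProduct.piLeft A N B x k = famPr B N k x := by
  induction x using TensorProduct.induction_on with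
  | zero => simp
  | tmul f n => simp [famPr]
  | add x y hx hy => simp only [map_add, Pi.add_apply, hx, hy]

/-- the `(k,l)`-th projection `(∏ B ⊗ ∏ B) ⊗ N → (B_k ⊗ B_l) ⊗ N` -/
noncomputable def famPr2 (k l : ι) : ((∀ k, B k) ⊗[A] (∀ k, B k)) ⊗[A] N →ₗ[A] (B k ⊗[A] B l) ⊗[A] N :=
  LinearMap.rTensor N (TensorProduct.map (LinearMap.proj k) (LinearMap.proj l))

/-- `∏ B ⊗ ∏ B ≃ ∏ ∏ B_k ⊗ B_l` -/
noncomputable def piPi : ((∀ k, B k) ⊗[A] (∀ k, B k)) ≃ₗ[A] ∀ k l, B k ⊗[A] B l :=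
  TensorProduct.piLeft A (∀ k, B k) B ≪≫ₗ
    LinearEquiv.piCongrRight fun k => TensorProduct.piRight A A (B k) B

theorem piPi_tmul (f g : ∀ k, B k) (k l : ι) : piPi B (f ⊗ₜ[A] g) k l = f k ⊗ₜ[A] g l := by
  simp [piPi]

theorem famPr2_jointly_injective (z : ((∀ k, B k) ⊗[A] (∀ k, B k)) ⊗[A] N)
    (h : ∀ k l, famPr2 B N k l z = 0) : z = 0 := by
  let E : ((∀ k, B k) ⊗[A] (∀ k, B k)) ⊗[A] N ≃ₗ[A] ∀ k l, (B k ⊗[A] B l) ⊗[A] N :=
    (TensorProduct.congr (piPi B) (LinearEquiv.refl A N)) ≪≫ₗ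
      TensorProduct.piLeft A N (fun k => ∀ l, B k ⊗[A] B l) ≪≫ₗ
        LinearEquiv.piCongrRight fun k => TensorProduct.piLeft A N (fun l => B k ⊗[A] B l)
  have hE : ∀ z k l, E z k l = famPr2 B N k l z := by
    intro z k l
    induction z using TensorProduct.induction_on with
    | zero => simp
    | tmul w n =>
      induction w using TensorProduct.induction_on with
      | zero => simp
      | tmul f g => simp [E, famPr2, piPi_tmul]
      | add w w' hw hw' => simp only [add_tmul, map_add, Pi.add_apply, hw, hw']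
    | add x y hx hy => simp only [map_add, Pi.add_apply, hx, hy]
  apply E.injective
  ext k l
  rw [hE, h]
  simp

theorem famPr2_amD0 (k l : ι) :
    famPr2 B N k l ∘ₗ Groth.Agent.H75.amD0 A (∀ k, B k) N = famInl B N k l ∘ₗ famPr B N k := by
  ext f n
  simp [famPr2, famInl, famPr, Groth.Agent.H75.amD0]

theorem famPr2_amD1 (k l : ι) :
    famPr2 B N k l ∘ₗ Groth.Agent.H75.amD1 A (∀ k, B k) N = famInr B N k l ∘ₗ famPr B N l := by
  ext f n
  simp [famPr2, famInr, famPr, Groth.Agent.H75.amD1]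

variable [∀ k, Module.Flat A (B k)]

theorem tfa_sep (hsurj : ∀ p : PrimeSpectrum A, ∃ (k : ι) (q : PrimeSpectrum (B k)),
      PrimeSpectrum.comap (algebraMap A (B k)) q = p)
    (n : N) (h : ∀ k, (1 : B k) ⊗ₜ[A] n = 0) : n = 0 := by
  haveI := faithfullyFlat_pi B hsurj
  apply Groth.Agent.H75.amE_injective A (∀ k, B k) N
  rw [map_zero]
  apply (TensorProduct.piLeft A N B).injective
  ext k
  rw [piLeft_apply_eq]
  simp [Groth.Agent.H75.amE, famPr, h]

theorem tfa_glue (hsurj : ∀ p : PrimeSpectrum A, ∃ (k : ι) (q : PrimeSpectrum (B k)),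
      PrimeSpectrum.comap (algebraMap A (B k)) q = p)
    (y : ∀ k, B k ⊗[A] N) (h : ∀ k l, famInl B N k l (y k) = famInr B N k l (y l)) :
    ∃ n : N, ∀ k, y k = (1 : B k) ⊗ₜ[A] n := by
  haveI := faithfullyFlat_pi B hsurj
  let Y := (TensorProduct.piLeft A N B).symm y
  have hY : ∀ k, famPr B N k Y = y k := fun k => by
    rw [← piLeft_apply_eq]
    simp [Y]
  have hd : (Groth.Agent.H75.amD0 A (∀ k, B k) N - Groth.Agent.H75.amD1 A (∀ k, B k) N) Y = 0 := by
    apply famPr2_jointly_injective B N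
    intro k l
    rw [LinearMap.sub_apply, map_sub, sub_eq_zero]
    have h0 := LinearMap.congr_fun (famPr2_amD0 B N k l) Y
    have h1 := LinearMap.congr_fun (famPr2_amD1 B N k l) Y
    simp only [LinearMap.comp_apply] at h0 h1
    rw [h0, h1, hY, hY, h]
  obtain ⟨n, hn⟩ := (Groth.Agent.H75.amitsur0_exact A (∀ k, B k) N Y).mp hd
  refine ⟨n, fun k => ?_⟩
  rw [← hY, ← hn]
  simp [Groth.Agent.H75.amE, famPr]

end TFA
end Groth.Agent.H51.QC
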