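import Groth.Agent.H51.QC.FamGlue
import Mathlib.LinearAlgebra.TensorProduct.Pi

/-!
# Descent of base change along a finite flat covering family (algebra)
-/

set_option autoImplicit false
universe u
open TensorProduct

namespace Groth.Agent.H51.QC

section TD

variable {A : Type u} [CommRing A] (B : Type u) [CommRing B] [Algebra A B] [Module.Flat A B]
  {ι : Type} [Fintype ι] [DecidableEq ι]
  {N : Type u} [AddCommGroup N] [Module A N]
  {Nk : ι → Type u} [∀ k, AddCommGroup (Nk k)] [∀ k, Module A (Nk k)]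
  {Nkl : ι → ι → Type u} [∀ k l, AddCommGroup (Nkl k l)] [∀ k l, Module A (Nkl k l)]
  (h : ∀ k, N →ₗ[A] Nk k) (p : ∀ k l, Nk k →ₗ[A] Nkl k l) (q : ∀ k l, Nk l →ₗ[A] Nkl k l)

omit [Module.Flat A B] in
theorem piRight_eq_proj {κ : Type} [Fintype κ] [DecidableEq κ] {Mm : κ → Type u}
    [∀ j, AddCommGroup (Mm j)] [∀ j, Module A (Mm j)] (w : B ⊗[A] (∀ j, Mm j)) (j : κ) :
    TensorProduct.piRight A A B Mm w j = (LinearMap.proj j : (∀ j, Mm j) →ₗ[A] Mm j).lTensor B w := by
  induction w using TensorProduct.induction_on with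
  | zero => simp
  | tmul b f => simp
  | add x y hx hy => simp only [map_add, Pi.add_apply, hx, hy]

theorem flat_sep (hinj : ∀ n, (∀ k, h k n = 0) → n = 0) (x : B ⊗[A] N)
    (hx : ∀ k, (h k).lTensor B x = 0) : x = 0 := by
  have hH : Function.Injective (LinearMap.pi h) := by
    rw [injective_iff_map_eq_zero]
    intro n hn
    exact hinj n fun k => congrFun hn k
  have := Module.Flat.lTensor_preserves_injective_linearMap (M := B) (LinearMap.pi h) hH
  apply this
  rw [map_zero]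
  apply (TensorProduct.piRight A A B Nk).injective
  rw [map_zero]
  funext k
  rw [piRight_eq_proj, ← LinearMap.lTensor_comp_apply, LinearMap.proj_pi, hx]
  rfl

theorem flat_glue
    (hglue : ∀ x : ∀ k, Nk k, (∀ k l, p k l (x k) = q k l (x l)) → ∃ n, ∀ k, h k n = x k)
    (hpq : ∀ k l n, p k l (h k n) = q k l (h l n))
    (z : ∀ k, B ⊗[A] Nk k) (hz : ∀ k l, (p k l).lTensor B (z k) = (q k l).lTensor B (z l)) :
    ∃ x : B ⊗[A] N, ∀ k, (h k).lTensor B x = z k := by
  let H : N →ₗ[A] (∀ k, Nk k) := LinearMap.pi h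
  let D : (∀ k, Nk k) →ₗ[A] (∀ kl : ι × ι, Nkl kl.1 kl.2) :=
    LinearMap.pi fun kl => (p kl.1 kl.2) ∘ₗ LinearMap.proj kl.1 - (q kl.1 kl.2) ∘ₗ LinearMap.proj kl.2
  have hex : Function.Exact H D := by
    intro y
    constructor
    · intro hy
      obtain ⟨n, hn⟩ := hglue y fun k l => by
        have := congrFun hy (k, l)
        simpa [D, sub_eq_zero] using this
      exact ⟨n, funext hn⟩
    · rintro ⟨n, rfl⟩
      funext kl
      simp [D, H, hpq, sub_eq_zero]
  have hex' := Module.Flat.lTensor_exact B hex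
  let w : B ⊗[A] (∀ k, Nk k) := (TensorProduct.piRight A A B Nk).symm z
  have hw : ∀ k, (LinearMap.proj k : (∀ k, Nk k) →ₗ[A] Nk k).lTensor B w = z k := by
    intro k
    rw [← piRight_eq_proj, LinearEquiv.apply_symm_apply]
  have hDw : D.lTensor B w = 0 := by
    apply (TensorProduct.piRight A A B (fun kl : ι × ι => Nkl kl.1 kl.2)).injective
    rw [map_zero]
    funext kl
    rw [piRight_eq_proj, ← LinearMap.lTensor_comp_apply, LinearMap.proj_pi, LinearMap.lTensor_sub,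
      LinearMap.sub_apply, LinearMap.lTensor_comp_apply, LinearMap.lTensor_comp_apply, hw, hw, hz,
      sub_self]
    rfl
  obtain ⟨x, hx⟩ := (hex' w).1 hDw
  refine ⟨x, fun k => ?_⟩
  rw [← hw k, ← hx, ← LinearMap.lTensor_comp_apply, LinearMap.proj_pi]

end TD

section Core

variable {A : Type u} [CommRing A] {B : Type u} [CommRing B] [Algebra A B] [Module.Flat A B]
  {ι : Type} [Fintype ι] [DecidableEq ι]
  {N : Type u} [AddCommGroup N] [Module A N]
  {Nk : ι → Type u} [∀ k, AddCommGroup (Nk k)] [∀ k, Module A (Nk k)]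
  {Nkl : ι → ι → Type u} [∀ k l, AddCommGroup (Nkl k l)] [∀ k l, Module A (Nkl k l)]
  (h : ∀ k, N →ₗ[A] Nk k) (p : ∀ k l, Nk k →ₗ[A] Nkl k l) (q : ∀ k l, Nk l →ₗ[A] Nkl k l)
  {Y : Type u} [AddCommGroup Y] [Module A Y] [Module B Y] [IsScalarTower A B Y]
  (h0 : N →ₗ[A] Y)
  {Yk : ι → Type u} [∀ k, AddCommGroup (Yk k)] [∀ k, Module A (Yk k)]
  (r : ∀ k, Y →ₗ[A] Yk k)
  (Ψ : ∀ k, B ⊗[A] Nk k →ₗ[A] Yk k)
  {Zkl : ι → ι → Type u} [∀ k l, AddCommGroup (Zkl k l)] [∀ k l, Module A (Zkl k l)]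
  (Ψ2 : ∀ k l, B ⊗[A] Nkl k l →ₗ[A] Zkl k l)
  (u : ∀ k l, Yk k →ₗ[A] Zkl k l) (v : ∀ k l, Yk l →ₗ[A] Zkl k l)

theorem descent_core
    (hinj : ∀ n, (∀ k, h k n = 0) → n = 0)
    (hglue : ∀ x : ∀ k, Nk k, (∀ k l, p k l (x k) = q k l (x l)) → ∃ n, ∀ k, h k n = x k)
    (hpq : ∀ k l n, p k l (h k n) = q k l (h l n))
    (hr : ∀ y, (∀ k, r k y = 0) → y = 0)
    (hΨ : ∀ k, Function.Bijective (Ψ k))
    (hΨ2 : ∀ k l, Function.Injective (Ψ2 k l))
    (huv : ∀ k l y, u k l (r k y) = v k l (r l y))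
    (hu : ∀ k l (b : B) (m : Nk k), u k l (Ψ k (b ⊗ₜ m)) = Ψ2 k l (b ⊗ₜ p k l m))
    (hv : ∀ k l (b : B) (m : Nk l), v k l (Ψ l (b ⊗ₜ m)) = Ψ2 k l (b ⊗ₜ q k l m))
    (hrΨ : ∀ k (b : B) (n : N), r k (b • h0 n) = Ψ k (b ⊗ₜ h k n)) :
    IsBaseChange B h0 := by
  rw [isBaseChange_iff_bijective_lift]
  have hrΦ : ∀ k (x : B ⊗[A] N), r k (h0.liftBaseChange B x) = Ψ k ((h k).lTensor B x) := by
    intro k x
    induction x using TensorProduct.induction_on with
    | zero => simp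
    | tmul b n => rw [LinearMap.liftBaseChange_tmul, hrΨ, LinearMap.lTensor_tmul]
    | add x y hx hy => simp only [map_add, hx, hy]
  have huΨ : ∀ k l (x : B ⊗[A] Nk k), u k l (Ψ k x) = Ψ2 k l ((p k l).lTensor B x) := by
    intro k l x
    induction x using TensorProduct.induction_on with
    | zero => simp
    | tmul b n => rw [hu, LinearMap.lTensor_tmul]
    | add x y hx hy => simp only [map_add, hx, hy]
  have hvΨ : ∀ k l (x : B ⊗[A] Nk l), v k l (Ψ l x) = Ψ2 k l ((q k l).lTensor B x) := by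
    intro k l x
    induction x using TensorProduct.induction_on with
    | zero => simp
    | tmul b n => rw [hv, LinearMap.lTensor_tmul]
    | add x y hx hy => simp only [map_add, hx, hy]
  constructor
  · rw [injective_iff_map_eq_zero]
    intro x hx
    apply flat_sep B h hinj x
    intro k
    apply (hΨ k).1
    rw [← hrΦ, hx, map_zero, map_zero]
  · intro y
    choose z hz using fun k => (hΨ k).2 (r k y)
    obtain ⟨x, hx⟩ := flat_glue B h p q hglue hpq z fun k l => by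
      apply hΨ2 k l
      rw [← huΨ, ← hvΨ, hz, hz, huv]
    refine ⟨x, ?_⟩
    have : ∀ k, r k (h0.liftBaseChange B x - y) = 0 := by
      intro k
      rw [map_sub, hrΦ, hx, hz, sub_self]
    exact sub_eq_zero.1 (hr _ this)

end Core

end Groth.Agent.H51.QC
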