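import Groth.Agent.H51.QC.FamCancel
import Mathlib.RingTheory.Finiteness.Descent

/-!
# Descent of finiteness of modules along a finite jointly faithfully flat family
-/

set_option autoImplicit false
universe u
open TensorProduct

namespace Groth.Agent.H51.QC

section

variable {A : Type u} [CommRing A] {ι : Type} [Fintype ι] [DecidableEq ι]
  (B : ι → Type u) [∀ k, CommRing (B k)] [∀ k, Algebra A (B k)] [∀ k, Module.Flat A (B k)]
  {P Q : Type u} [AddCommGroup P] [AddCommGroup Q] [Module A P] [Module A Q]

/-- surjectivity can be tested after tensoring with a finite jointly faithfully flat family -/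
theorem surjective_of_family
    (hsurj : ∀ p : PrimeSpectrum A, ∃ (k : ι) (q : PrimeSpectrum (B k)),
      PrimeSpectrum.comap (algebraMap A (B k)) q = p)
    (Φ : P →ₗ[A] Q) (h : ∀ k, Function.Surjective (Φ.lTensor (B k))) : Function.Surjective Φ := by
  haveI := faithfullyFlat_pi B hsurj
  rw [← Module.FaithfullyFlat.lTensor_surjective_iff_surjective A (∀ k, B k)]
  have nat : ∀ (x : (∀ k, B k) ⊗[A] P) (k : ι),
      famPr B Q k (Φ.lTensor (∀ k, B k) x) = Φ.lTensor (B k) (famPr B P k x) := by
    intro x k
    unfold famPr
    rw [← LinearMap.comp_apply, ← LinearMap.comp_apply, LinearMap.rTensor_comp_lTensor,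
      LinearMap.lTensor_comp_rTensor]
  intro y
  choose z hz using fun k => h k (TensorProduct.piLeft A Q B y k)
  refine ⟨(TensorProduct.piLeft A P B).symm z, ?_⟩
  apply (TensorProduct.piLeft A Q B).injective
  funext k
  rw [piLeft_apply_eq, nat, ← piLeft_apply_eq, LinearEquiv.apply_symm_apply, hz]

/-- finiteness of a module descends along a finite jointly faithfully flat family -/
theorem finite_of_family
    (hsurj : ∀ p : PrimeSpectrum A, ∃ (k : ι) (q : PrimeSpectrum (B k)),
      PrimeSpectrum.comap (algebraMap A (B k)) q = p)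
    (M : Type u) [AddCommGroup M] [Module A M]
    (h : ∀ k, Module.Finite (B k) (B k ⊗[A] M)) : Module.Finite A M := by
  choose n s hs using fun k => Module.Finite.exists_fin (R := B k) (M := B k ⊗[A] M)
  choose c t m hm using fun (k : ι) (i : Fin (n k)) => TensorProduct.exists_sum_tmul_eq (s k i)
  let f₀ : ((Σ k, Σ i : Fin (n k), Fin (c k i)) → A) →ₗ[A] M :=
    (Pi.basisFun A _).constr A fun x => m x.1 x.2.1 x.2.2
  apply Module.Finite.of_surjective f₀
  refine surjective_of_family B hsurj f₀ fun k => ?_
  have : Function.Surjective (AlgebraTensorModule.lTensor (B k) (B k) f₀) := by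
    rw [← LinearMap.range_eq_top, eq_top_iff, ← hs k, Submodule.span_le, Set.range_subset_iff]
    intro i
    use ∑ (j : Fin (c k i)), t k i j ⊗ₜ Pi.basisFun A _ ⟨k, i, j⟩
    simp [f₀, -Pi.basisFun_equivFun, -Pi.basisFun_apply, hm k i]
  exact this

end

end Groth.Agent.H51.QC
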