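import Groth.Agent.H51.QC.FinSec

/-!
# Finite presentation from finiteness of sections over affine objects with Noetherian rings
-/

set_option autoImplicit false
universe w v₁ u₁
open CategoryTheory Limits Opposite

namespace Groth.Agent.H51.QC

section Terminal

variable {C : Type u₁} [Category.{v₁} C] {J : GrothendieckTopology C}
  [J.HasSheafCompose (forget₂ CommRingCat.{w} RingCat.{w})] {R₀ : Sheaf J CommRingCat.{w}}
  [HasSheafify J AddCommGrpCat.{w}] [J.WEqualsLocallyBijective AddCommGrpCat.{w}]
  {A : C → Prop} [HasPullbacks C]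

/-- finitely many generating sections from finiteness of the module of sections over an affine
terminal object -/
theorem exists_finite_generators (hAD : AffData J R₀.obj A) {T : C} (hT : IsTerminal T)
    (hTA : A T) (N : SheafOfModules.{w} (ringSh R₀)) (hN : IsBCOn A N)
    (hfin : Module.Finite (R₀.obj.obj (op T)) (N.val.obj (op T))) :
    ∃ G : N.GeneratingSections, Finite G.I := by
  obtain ⟨n, s, hs⟩ := Module.Finite.exists_fin (R := R₀.obj.obj (op T)) (M := N.val.obj (op T))
  refine ⟨generatorsOfIsBC hAD hT hTA N hN (I := ULift.{w} (Fin n)) (fun i => s i.down) ?_, ?_⟩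
  · rw [← hs]
    congr 1
    ext x
    constructor
    · rintro ⟨i, rfl⟩
      exact ⟨i.down, rfl⟩
    · rintro ⟨i, rfl⟩
      exact ⟨⟨i⟩, rfl⟩
  · exact inferInstanceAs (Finite (ULift.{w} (Fin n)))

/-- a finite global presentation from finiteness of sections over an affine terminal object with
Noetherian ring -/
theorem exists_finite_presentation (hAD : AffData J R₀.obj A) {T : C} (hT : IsTerminal T)
    (hTA : A T) (N : SheafOfModules.{w} (ringSh R₀)) (hN : IsBCOn A N)
    (hNoeth : IsNoetherianRing (R₀.obj.obj (op T)))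
    (hfin : Module.Finite (R₀.obj.obj (op T)) (N.val.obj (op T))) :
    ∃ p : N.Presentation, p.IsFinite := by
  obtain ⟨G, hG⟩ := exists_finite_generators hAD hT hTA N hN hfin
  have hK : IsBCOn A (kernel G.π) := isBCOn_kernel hAD _ (isBCOn_free hAD _) hN
  have hfree : Module.Finite (R₀.obj.obj (op T))
      ((SheafOfModules.free (R := ringSh R₀) G.I).val.obj (op T)) :=
    finite_free_sections hAD G.I T hTA
  have hnoe : IsNoetherian ((ringSh R₀).obj.obj (op T))
      ((SheafOfModules.free (R := ringSh R₀) G.I).val.obj (op T)) :=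
    @isNoetherian_of_isNoetherianRing_of_finite _ _ _ _ _ hNoeth hfree
  have hKfin : Module.Finite ((ringSh R₀).obj.obj (op T)) ((kernel G.π).val.obj (op T)) :=
    haveI := hnoe
    Module.Finite.of_injective ((kernel.ι G.π).val.app (op T)).hom
      (kernel_sections_exact G.π (op T)).2
  obtain ⟨G', hG'⟩ := exists_finite_generators hAD hT hTA (kernel G.π) hK hKfin
  exact ⟨⟨G, G'⟩, ⟨⟨hG⟩, ⟨hG'⟩⟩⟩

end Terminal

section Global

variable {C : Type u₁} [Category.{v₁} C] {J : GrothendieckTopology C}
  [J.HasSheafCompose (forget₂ CommRingCat.{w} RingCat.{w})] {R₀ : Sheaf J CommRingCat.{w}}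
  [HasSheafify J AddCommGrpCat.{w}] [J.WEqualsLocallyBijective AddCommGrpCat.{w}]
  [∀ X : C, (J.over X).HasSheafCompose (forget₂ CommRingCat.{w} RingCat.{w})]
  [∀ X : C, HasSheafify (J.over X) AddCommGrpCat.{w}]
  [∀ X : C, (J.over X).WEqualsLocallyBijective AddCommGrpCat.{w}]
  {A : C → Prop} [HasPullbacks C]

/-- **Finite presentation criterion.** A sheaf of modules satisfying base change on affine
objects, whose modules of sections over affine objects are finite over Noetherian rings, is of
finite presentation. -/
theorem isFinitePresentation_of_finite_sections (hAD : AffData J R₀.obj A)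
    (M : SheafOfModules.{w} (ringSh R₀)) (hM : IsBCOn A M)
    (hNoeth : ∀ E : C, A E → IsNoetherianRing (R₀.obj.obj (op E)))
    (hfin : ∀ E : C, A E → Module.Finite (R₀.obj.obj (op E)) (M.val.obj (op E))) :
    M.IsFinitePresentation := by
  have key : ∀ E : {E : C // A E}, ∃ p : (M.over E.1).Presentation, p.IsFinite := fun E =>
    exists_finite_presentation (R₀ := R₀.over E.1) (hAD.over E.1) (T := Over.mk (𝟙 E.1))
      Over.mkIdTerminal E.2 (M.over E.1) (isBCOn_over M hM E.1) (hNoeth E.1 E.2) (hfin E.1 E.2)
  choose p hp using key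
  refine ⟨⟨{ I := {E : C // A E}
             X := Subtype.val
             coversTop := fun W => ?_
             presentation := p }, ⟨hp⟩⟩⟩
  refine J.superset_covering ?_ (hAD.coversTop W)
  rw [Sieve.generate_le_iff]
  intro Y g hY
  exact ⟨⟨Y, hY⟩, ⟨𝟙 _⟩⟩

end Global

end Groth.Agent.H51.QC
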