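import Groth.Agent.H51.QC.SurjBC
import Groth.Agent.H51.QC.FinDesc

/-!
# Finiteness of the modules of sections over affine objects of finite type quasi-coherent modules
-/

set_option autoImplicit false
universe w v₁ u₁
open CategoryTheory Limits Opposite TensorProduct

namespace Groth.Agent.H51.QC

variable {C : Type u₁} [Category.{v₁} C] {J : GrothendieckTopology C}
  [J.HasSheafCompose (forget₂ CommRingCat.{w} RingCat.{w})] {R₀ : Sheaf J CommRingCat.{w}}
  [HasSheafify J AddCommGrpCat.{w}] [J.WEqualsLocallyBijective AddCommGrpCat.{w}]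
  {A : C → Prop} [HasPullbacks C]

/-- finiteness of sections descends along finite affine covers -/
theorem finite_sections_of_cover (hAD : AffData J R₀.obj A) (M : SheafOfModules.{w} (ringSh R₀))
    (hM : IsBCOn A M) {E : C} (hE : A E) {n : ℕ} (U : Fin n → C) (g : ∀ k, U k ⟶ E)
    (hU : ∀ k, A (U k)) (hcov : Sieve.ofArrows U g ∈ J E)
    (h : ∀ k, Module.Finite (R₀.obj.obj (op (U k))) (M.val.obj (op (U k)))) :
    Module.Finite (R₀.obj.obj (op E)) (M.val.obj (op E)) := by
  letI alg : ∀ k, Algebra (R₀.obj.obj (op E)) (R₀.obj.obj (op (U k))) := fun k =>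
    (R₀.obj.map (g k).op).hom.toAlgebra
  haveI : ∀ k, Module.Flat (R₀.obj.obj (op E)) (R₀.obj.obj (op (U k))) := fun k =>
    hAD.flat (g k) (hU k) hE
  refine finite_of_family (fun k => R₀.obj.obj (op (U k))) (hAD.surj U g hE hU hcov) _ fun k => ?_
  have hbc := (isBCOn_iff_semiBC M).mp hM (g k) (hU k) hE
  unfold SemiBC at hbc
  letI : Module (R₀.obj.obj (op E)) (M.val.obj (op (U k))) :=
    Module.compHom _ (R₀.obj.map (g k).op).hom
  haveI : IsScalarTower (R₀.obj.obj (op E)) (R₀.obj.obj (op (U k))) (M.val.obj (op (U k))) :=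
    IsScalarTower.of_algebraMap_smul fun _ _ => rfl
  have hbc' : IsBaseChange (R₀.obj.obj (op (U k)))
    (semiToLin (R₀.obj.map (g k).op).hom (resSL R₀.obj M.val (g k).op)) := hbc
  haveI := h k
  exact Module.Finite.equiv hbc'.equiv.symm

section FT

variable [∀ X : C, (J.over X).HasSheafCompose (forget₂ CommRingCat.{w} RingCat.{w})]
  [∀ X : C, HasSheafify (J.over X) AddCommGrpCat.{w}]
  [∀ X : C, (J.over X).WEqualsLocallyBijective AddCommGrpCat.{w}]

/-- sections over an affine object lying over a member of a family of local generators -/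
theorem finite_sections_of_generators (hAD : AffData J R₀.obj A)
    (M : SheafOfModules.{w} (ringSh R₀)) (hM : IsBCOn A M) (X : C)
    (G : (M.over X).GeneratingSections) [Finite G.I] {U : C} (hU : A U) (e : U ⟶ X) :
    Module.Finite (R₀.obj.obj (op U)) (M.val.obj (op U)) := by
  haveI hepi : Epi (C := SheafOfModules.{w} (ringSh (R₀.over X))) G.π := G.epi
  have h1 := surjective_of_epi_of_isBCOn (R₀ := R₀.over X) (hAD.over X) G.π
    (isBCOn_free (R₀ := R₀.over X) (hAD.over X) _) (isBCOn_over M hM X) (Over.mk e) hU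
  have h2 := finite_free_sections (R₀ := R₀.over X) (hAD.over X) G.I (Over.mk e) hU
  exact Module.Finite.of_surjective (hM := h2) _ h1

/-- **Sections of a quasi-coherent module of finite type over an affine object form a finite
module.** -/
theorem finite_sections_of_isFiniteType (hAD : AffData J R₀.obj A)
    (M : SheafOfModules.{w} (ringSh R₀)) (hM : IsBCOn A M) [hft : M.IsFiniteType] {E : C}
    (hE : A E) : Module.Finite (R₀.obj.obj (op E)) (M.val.obj (op E)) := by
  obtain ⟨σ, hσ⟩ := hft.exists_localGeneratorsData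
  obtain ⟨n, U, g, hU, hgS, hcov⟩ := hAD.cover _ hE (σ.coversTop E)
  refine finite_sections_of_cover hAD M hM hE U g hU hcov fun k => ?_
  obtain ⟨i, ⟨e⟩⟩ := hgS k
  haveI : Finite (σ.generators i).I := (hσ.isFiniteType i).finite
  exact finite_sections_of_generators hAD M hM (σ.X i) (σ.generators i) (hU k) e

end FT

end Groth.Agent.H51.QC
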