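import Groth.Agent.H51.QC.QCohBC
import Mathlib.Algebra.Homology.ShortComplex.ModuleCat

/-!
# Kernels of morphisms of sheaves of modules satisfying base change on affine objects
-/

set_option autoImplicit false
universe w v₁ u₁
open CategoryTheory Limits Opposite

namespace Groth.Agent.H51.QC

section Alg

variable {A B : Type*} [CommRing A] [CommRing B] (φ : A →+* B)
  {M₁ M₂ M₃ : Type*} [AddCommGroup M₁] [AddCommGroup M₂] [AddCommGroup M₃]
  [Module A M₁] [Module A M₂] [Module A M₃]
  {N₁ N₂ N₃ : Type*} [AddCommGroup N₁] [AddCommGroup N₂] [AddCommGroup N₃]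
  [Module B N₁] [Module B N₂] [Module B N₃]

theorem SemiBC.of_left_exact (hφ : φ.Flat)
    (h₁ : M₁ →ₛₗ[φ] N₁) (h₂ : M₂ →ₛₗ[φ] N₂) (h₃ : M₃ →ₛₗ[φ] N₃)
    (f : M₁ →ₗ[A] M₂) (g : M₂ →ₗ[A] M₃) (f' : N₁ →ₗ[B] N₂) (g' : N₂ →ₗ[B] N₃)
    (comm₁ : ∀ m, h₂ (f m) = f' (h₁ m)) (comm₂ : ∀ m, h₃ (g m) = g' (h₂ m))
    (isb₂ : SemiBC φ h₂) (isb₃ : SemiBC φ h₃)
    (exact₁ : Function.Exact f g) (inj₁ : Function.Injective f)
    (exact₂ : Function.Exact f' g') (inj₂ : Function.Injective f') : SemiBC φ h₁ := by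
  unfold SemiBC at isb₂ isb₃ ⊢
  letI := φ.toAlgebra
  letI : Module A N₁ := Module.compHom N₁ φ
  letI : Module A N₂ := Module.compHom N₂ φ
  letI : Module A N₃ := Module.compHom N₃ φ
  haveI : IsScalarTower A B N₁ := IsScalarTower.of_algebraMap_smul fun _ _ => rfl
  haveI : IsScalarTower A B N₂ := IsScalarTower.of_algebraMap_smul fun _ _ => rfl
  haveI : IsScalarTower A B N₃ := IsScalarTower.of_algebraMap_smul fun _ _ => rfl
  haveI : Module.Flat A B := hφ
  have i₂ : IsBaseChange B (semiToLin φ h₂) := isb₂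
  have i₃ : IsBaseChange B (semiToLin φ h₃) := isb₃
  exact IsBaseChange.of_left_exact B (semiToLin φ h₁) (semiToLin φ h₂) (semiToLin φ h₃)
    (f := f) (g := g) (f' := f') (g' := g')
    (LinearMap.ext comm₁) (LinearMap.ext comm₂) i₂ i₃ exact₁ inj₁ exact₂ inj₂

end Alg

section KerSections

variable {C : Type u₁} [Category.{v₁} C] {J : GrothendieckTopology C} {R : Sheaf J RingCat.{w}}
  [HasSheafify J AddCommGrpCat.{w}] [J.WEqualsLocallyBijective AddCommGrpCat.{w}]

theorem kernel_sections_exact {N1 N2 : SheafOfModules.{w} R} (φ : N1 ⟶ N2) (X : Cᵒᵖ) :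
    Function.Exact ((kernel.ι φ).val.app X).hom (φ.val.app X).hom ∧
      Function.Injective ((kernel.ι φ).val.app X).hom := by
  let S : ShortComplex (SheafOfModules.{w} R) := ShortComplex.mk (kernel.ι φ) φ (kernel.condition φ)
  have hS : S.Exact := S.exact_of_f_is_kernel (kernelIsKernel φ)
  have hm : Mono S.f := inferInstanceAs (Mono (kernel.ι φ))
  have hS' : (S.map (SheafOfModules.evaluation R X)).Exact :=
    hS.map_of_mono_of_preservesKernel (SheafOfModules.evaluation R X) hm inferInstance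
  constructor
  · exact (ShortComplex.ShortExact.moduleCat_exact_iff_function_exact _).mp hS'
  · have : Mono ((SheafOfModules.evaluation R X).map (kernel.ι φ)) := inferInstance
    exact (ModuleCat.mono_iff_injective _).mp this

end KerSections

section KerBC

variable {C : Type u₁} [Category.{v₁} C] {J : GrothendieckTopology C}
  [J.HasSheafCompose (forget₂ CommRingCat.{w} RingCat.{w})] {R₀ : Sheaf J CommRingCat.{w}}
  [HasSheafify J AddCommGrpCat.{w}] [J.WEqualsLocallyBijective AddCommGrpCat.{w}]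
  {A : C → Prop} [HasPullbacks C]

/-- The kernel of a morphism between sheaves of modules satisfying base change on affine objects
satisfies base change on affine objects. -/
theorem isBCOn_kernel (hAD : AffData J R₀.obj A) {N1 N2 : SheafOfModules.{w} (ringSh R₀)}
    (φ : N1 ⟶ N2) (h1 : IsBCOn A N1) (h2 : IsBCOn A N2) : IsBCOn A (kernel φ) := by
  rw [isBCOn_iff_semiBC] at h1 h2 ⊢
  intro U V f hU hV
  obtain ⟨exV, injV⟩ := kernel_sections_exact φ (op V)
  obtain ⟨exU, injU⟩ := kernel_sections_exact φ (op U)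
  refine SemiBC.of_left_exact (R₀.obj.map f.op).hom (hAD.flat f hU hV)
    (resSL R₀.obj (kernel φ).val f.op) (resSL R₀.obj N1.val f.op) (resSL R₀.obj N2.val f.op)
    ((kernel.ι φ).val.app (op V)).hom (φ.val.app (op V)).hom
    ((kernel.ι φ).val.app (op U)).hom (φ.val.app (op U)).hom ?_ ?_ (h1 f hU hV) (h2 f hU hV)
    exV injV exU injU
  · intro m
    exact (PresheafOfModules.naturality_apply (kernel.ι φ).val f.op m).symm
  · intro m
    exact (PresheafOfModules.naturality_apply φ.val f.op m).symm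

end KerBC

end Groth.Agent.H51.QC
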