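import Groth.Agent.H51.QC.KerBC
import Mathlib.CategoryTheory.Sites.EpiMono

/-!
# Theorem A′: a sheaf of modules satisfying base change on affine objects, on a site with an
affine terminal object, has a global presentation
-/

set_option autoImplicit false
universe w v₁ u₁
open CategoryTheory Limits Opposite

namespace Groth.Agent.H51.QC

section Sec

variable {C : Type u₁} [Category.{v₁} C] {T : C} (hT : IsTerminal T)

/-- the section of a presheaf of modules determined by an element over the terminal object -/
noncomputable def sectionOfElem {R : Cᵒᵖ ⥤ RingCat.{w}} (P : PresheafOfModules.{w} R)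
    (n : P.obj (op T)) : P.sections :=
  PresheafOfModules.sectionsMk (fun X => P.map (hT.from X.unop).op n) (fun X Y f => by
    rw [← PresheafOfModules.map_comp_apply]
    have : (hT.from X.unop).op ≫ f = (hT.from Y.unop).op :=
      Quiver.Hom.unop_inj (hT.hom_ext _ _)
    rw [this])

theorem sectionOfElem_val {R : Cᵒᵖ ⥤ RingCat.{w}} (P : PresheafOfModules.{w} R)
    (n : P.obj (op T)) (X : Cᵒᵖ) :
    (sectionOfElem hT P n).val X = P.map (hT.from X.unop).op n := rfl

end Sec

section SpanAlg

variable {A B : Type*} [CommRing A] [CommRing B] {φ : A →+* B}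
  {M N : Type*} [AddCommGroup M] [Module A M] [AddCommGroup N] [Module B N]

theorem SemiBC.mem_of_span (h : M →ₛₗ[φ] N) (hh : SemiBC φ h) (Rg : Submodule B N)
    {ι : Type*} (s : ι → M) (hs : Submodule.span A (Set.range s) = ⊤)
    (hmem : ∀ i, h (s i) ∈ Rg) (x : N) : x ∈ Rg := by
  unfold SemiBC at hh
  letI := φ.toAlgebra
  letI : Module A N := Module.compHom N φ
  haveI : IsScalarTower A B N := IsScalarTower.of_algebraMap_smul fun _ _ => rfl
  have hh' : IsBaseChange B (semiToLin φ h) := hh
  refine hh'.inductionOn x (fun y => y ∈ Rg) Rg.zero_mem ?_ (fun b n hn => Rg.smul_mem b hn)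
    (fun n₁ n₂ h₁ h₂ => Rg.add_mem h₁ h₂)
  intro m
  rw [semiToLin_apply]
  have hm : m ∈ Submodule.span A (Set.range s) := by rw [hs]; trivial
  induction hm using Submodule.span_induction with
  | mem y hy =>
    obtain ⟨i, rfl⟩ := hy
    exact hmem i
  | zero => rw [map_zero]; exact Rg.zero_mem
  | add y z _ _ hy hz => rw [map_add]; exact Rg.add_mem hy hz
  | smul a y _ hy => rw [h.map_smulₛₗ]; exact Rg.smul_mem _ hy

end SpanAlg

section Epi

variable {C : Type u₁} [Category.{v₁} C] {J : GrothendieckTopology C}
  [J.HasSheafCompose (forget₂ CommRingCat.{w} RingCat.{w})] {R₀ : Sheaf J CommRingCat.{w}}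
  [HasSheafify J AddCommGrpCat.{w}] [J.WEqualsLocallyBijective AddCommGrpCat.{w}]
  {A : C → Prop} [HasPullbacks C]

/-- a morphism of sheaves of modules which is surjective on sections over affine objects is an
epimorphism -/
theorem epi_of_surjective_on (hAD : AffData J R₀.obj A) {N1 N2 : SheafOfModules.{w} (ringSh R₀)}
    (π : N1 ⟶ N2) (h : ∀ Y : C, A Y → Function.Surjective (π.val.app (op Y)).hom) : Epi π := by
  have hls : Sheaf.IsLocallySurjective ((SheafOfModules.toSheaf (ringSh R₀)).map π) := by
    constructor
    intro U t
    refine J.superset_covering ?_ (hAD.coversTop U)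
    rw [Sieve.generate_le_iff]
    intro Y g hY
    obtain ⟨y, hy⟩ := h Y hY (N2.val.map g.op t)
    exact ⟨y, hy⟩
  have : Epi ((SheafOfModules.toSheaf (ringSh R₀)).map π) := Sheaf.epi_of_isLocallySurjective _
  exact (SheafOfModules.toSheaf (ringSh R₀)).epi_of_epi_map this

/-- sections over an affine terminal object which span the module of sections there generate the
sheaf of modules -/
theorem epi_of_span (hAD : AffData J R₀.obj A) {T : C} (hT : IsTerminal T) (hTA : A T)
    (N : SheafOfModules.{w} (ringSh R₀)) (hN : IsBCOn A N)
    {I : Type w} (s : I → N.val.obj (op T))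
    (hs : Submodule.span (R₀.obj.obj (op T)) (Set.range s) = ⊤) :
    Epi (N.freeHomEquiv.symm (fun i => sectionOfElem hT N.val (s i))) := by
  refine epi_of_surjective_on hAD _ fun Y hY t => ?_
  have hbc := (isBCOn_iff_semiBC N).mp hN (hT.from Y) hY hTA
  let Rg := LinearMap.range ((N.freeHomEquiv.symm (fun i => sectionOfElem hT N.val (s i))).val.app
      (op Y)).hom
  have := SemiBC.mem_of_span _ hbc Rg s hs (fun i => ?_) t
  · exact this
  · refine ⟨(SheafOfModules.freeSection i).val (op Y), ?_⟩
    have h1 := SheafOfModules.sectionsMap_freeHomEquiv_symm_freeSection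
      (fun i => sectionOfElem hT N.val (s i)) i
    exact congrArg (fun z => z.val (op Y)) h1

/-- generating sections from a spanning family over an affine terminal object -/
noncomputable def generatorsOfIsBC (hAD : AffData J R₀.obj A) {T : C} (hT : IsTerminal T)
    (hTA : A T) (N : SheafOfModules.{w} (ringSh R₀)) (hN : IsBCOn A N)
    {I : Type w} (s : I → N.val.obj (op T))
    (hs : Submodule.span (R₀.obj.obj (op T)) (Set.range s) = ⊤) : N.GeneratingSections where
  I := I
  s := fun i => sectionOfElem hT N.val (s i)
  epi := epi_of_span hAD hT hTA N hN s hs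

/-- **Theorem A′ (global form).** On a site with an affine terminal object, a sheaf of modules
satisfying base change on affine objects has a global presentation. -/
noncomputable def presentationOfIsBC (hAD : AffData J R₀.obj A) {T : C} (hT : IsTerminal T)
    (hTA : A T) (N : SheafOfModules.{w} (ringSh R₀)) (hN : IsBCOn A N) : N.Presentation where
  generators := generatorsOfIsBC hAD hT hTA N hN (I := N.val.obj (op T)) id
    (Submodule.eq_top_iff'.mpr fun x => Submodule.subset_span ⟨x, rfl⟩)
  relations := generatorsOfIsBC hAD hT hTA _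
    (isBCOn_kernel hAD _ (isBCOn_free hAD _) hN) (I := _) id
    (Submodule.eq_top_iff'.mpr fun x => Submodule.subset_span ⟨x, rfl⟩)

end Epi

end Groth.Agent.H51.QC
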