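import Groth.Agent.H51.QC.AffData
import Mathlib.CategoryTheory.Sites.Over
import Mathlib.CategoryTheory.Limits.Constructions.Over.Connected

/-!
# The data of affine objects passes to slice sites
-/

set_option autoImplicit false
universe w v₁ u₁
open CategoryTheory Limits Opposite

namespace Groth.Agent.H51.QC

variable {C : Type u₁} [Category.{v₁} C] {J : GrothendieckTopology C}
  {R₀ : Cᵒᵖ ⥤ CommRingCat.{w}} {A : C → Prop}

theorem AffData.over [HasPullbacks C] (hAD : AffData J R₀ A) (E : C) :
    AffData (J.over E) ((Over.forget E).op ⋙ R₀) (fun Y => A Y.left) where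
  pullback_mem h hU hU' hV := hAD.pullback_mem (h.map (Over.forget E)) hU hU' hV
  flat f hU hV := hAD.flat f.left hU hV
  pushout h hU hU' hV := hAD.pushout (h.map (Over.forget E)) hU hU' hV
  cover {Y} S hY hS := by
    rw [GrothendieckTopology.mem_over_iff] at hS
    obtain ⟨n, U, g, hU, hgS, hcov⟩ := hAD.cover _ hY hS
    refine ⟨n, fun k => Over.mk (g k ≫ Y.hom), fun k => Over.homMk (g k), hU,
      fun k => (Sieve.overEquiv_iff S (g k)).mp (hgS k), ?_⟩
    rw [GrothendieckTopology.mem_over_iff, Sieve.overEquiv_ofArrows]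
    exact hcov
  surj {Y n} U g hY hU hcov p := by
    rw [GrothendieckTopology.mem_over_iff, Sieve.overEquiv_ofArrows] at hcov
    exact hAD.surj (fun k => (U k).left) (fun k => (g k).left) hY hU hcov p
  coversTop X := by
    rw [GrothendieckTopology.mem_over_iff]
    refine J.superset_covering ?_ (hAD.coversTop X.left)
    rintro Z h ⟨Y, c, u, hY, rfl⟩
    rw [Sieve.overEquiv_iff]
    refine ⟨Over.mk (u ≫ X.hom), Over.homMk c (by simp), Over.homMk u, hY, ?_⟩
    ext
    simp

end Groth.Agent.H51.QC
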