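import Groth.Agent.H51.QC.ColimBC
import Groth.Agent.H51.QC.Slice
import Mathlib.Algebra.Category.ModuleCat.Sheaf.Quasicoherent

/-!
# Presented sheaves of modules satisfy base change on affine objects
-/

set_option autoImplicit false
universe w v₁ u₁
open CategoryTheory Limits Opposite

namespace Groth.Agent.H51.QC

variable {C : Type u₁} [Category.{v₁} C] {J : GrothendieckTopology C}
  [J.HasSheafCompose (forget₂ CommRingCat.{w} RingCat.{w})] {R₀ : Sheaf J CommRingCat.{w}}
  [HasSheafify J AddCommGrpCat.{w}] [J.WEqualsLocallyBijective AddCommGrpCat.{w}]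
  {A : C → Prop}

/-- A sheaf of modules satisfies base change between affine objects. -/
def IsBCOn (A : C → Prop) (M : SheafOfModules.{w} (ringSh R₀)) : Prop :=
  ∀ {U V : C} (f : U ⟶ V), A U → A V → IsBCAt R₀.obj M.val f.op

theorem isBCOn_iff_semiBC (M : SheafOfModules.{w} (ringSh R₀)) :
    IsBCOn A M ↔ ∀ {U V : C} (f : U ⟶ V), A U → A V →
      SemiBC (R₀.obj.map f.op).hom (resSL R₀.obj M.val f.op) :=
  ⟨fun h _ _ f hU hV => (isBCAt_iff_semiBC _ _ _).mp (h f hU hV),
    fun h _ _ f hU hV => (isBCAt_iff_semiBC _ _ _).mpr (h f hU hV)⟩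

theorem isBCOn_unit : IsBCOn A (SheafOfModules.unit (ringSh R₀)) := by
  rw [isBCOn_iff_semiBC]
  intro U V f _ _
  exact (SemiBC.congr rfl (fun m => rfl)).mp (semiBC_ringHomSL (R₀.obj.map f.op).hom)

variable [HasPullbacks C]

theorem isBCOn_of_isColimit (hAD : AffData J R₀.obj A) {K : Type*} [Category K]
    [HasColimitsOfShape K AddCommGrpCat.{w}] {D : K ⥤ SheafOfModules.{w} (ringSh R₀)}
    {c : Cocone D} (hc : IsColimit c) (hD : ∀ k, IsBCOn A (D.obj k)) : IsBCOn A c.pt :=
  fun f hU hV => isBCAt_colimit hAD hc (fun k _ _ g hU hV => hD k g hU hV) f hU hV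

theorem isBCOn_free (hAD : AffData J R₀.obj A) (I : Type w) :
    IsBCOn A (SheafOfModules.free (R := ringSh R₀) I) :=
  isBCOn_of_isColimit hAD (SheafOfModules.isColimitFreeCofan (R := ringSh R₀) I)
    (fun _ => isBCOn_unit)

theorem isBCOn_of_presentation (hAD : AffData J R₀.obj A) {M : SheafOfModules.{w} (ringSh R₀)}
    (P : M.Presentation) : IsBCOn A M := by
  refine isBCOn_of_isColimit hAD P.isColimit ?_
  rintro (_ | _)
  · exact isBCOn_free hAD _
  · exact isBCOn_free hAD _

end Groth.Agent.H51.QC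

namespace Groth.Agent.H51.QC

open CategoryTheory Limits Opposite

variable {C : Type u₁} [Category.{v₁} C] {J : GrothendieckTopology C}
  [J.HasSheafCompose (forget₂ CommRingCat.{w} RingCat.{w})] {R₀ : Sheaf J CommRingCat.{w}}
  [HasSheafify J AddCommGrpCat.{w}] [J.WEqualsLocallyBijective AddCommGrpCat.{w}]
  [∀ X : C, (J.over X).HasSheafCompose (forget₂ CommRingCat.{w} RingCat.{w})]
  [∀ X : C, HasSheafify (J.over X) AddCommGrpCat.{w}]
  [∀ X : C, (J.over X).WEqualsLocallyBijective AddCommGrpCat.{w}]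
  {A : C → Prop} [HasPullbacks C]

/-- base change for the restriction of `M` to a slice gives base change for `M` -/
theorem isBCAt_of_isBCOn_over (M : SheafOfModules.{w} (ringSh R₀)) (E : C)
    (h : IsBCOn (R₀ := R₀.over E) (fun Y : Over E => A Y.left) (M.over E))
    {U V : C} (f : U ⟶ V) (e : V ⟶ E) (hU : A U) (hV : A V) : IsBCAt R₀.obj M.val f.op := by
  have h1 := (isBCAt_iff_semiBC _ _ _).mp
    (h (Over.homMk f : Over.mk (f ≫ e) ⟶ Over.mk e) hU hV)
  rw [isBCAt_iff_semiBC]
  exact (SemiBC.congr rfl (fun m => rfl)).mp h1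

/-- A quasi-coherent sheaf of modules satisfies base change between affine objects lying over
a member of the trivializing family. -/
theorem isBCAt_of_quasicoherentData (hAD : AffData J R₀.obj A)
    (M : SheafOfModules.{w} (ringSh R₀)) (q : M.QuasicoherentData)
    (i : q.I) {U V : C} (f : U ⟶ V) (e : V ⟶ q.X i) (hU : A U) (hV : A V) :
    IsBCAt R₀.obj M.val f.op :=
  isBCAt_of_isBCOn_over M (q.X i)
    (isBCOn_of_presentation (R₀ := R₀.over (q.X i)) (hAD.over (q.X i)) (q.presentation i))
    f e hU hV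

end Groth.Agent.H51.QC
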