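import Groth.Agent.H51.QC.QCohAprime

/-!
# Epimorphisms between sheaves of modules satisfying base change are surjective on affine sections;
sections of finite free modules over affine objects
-/

set_option autoImplicit false
universe w v₁ u₁
open CategoryTheory Limits Opposite

namespace Groth.Agent.H51.QC

variable {C : Type u₁} [Category.{v₁} C] {J : GrothendieckTopology C}
  [J.HasSheafCompose (forget₂ CommRingCat.{w} RingCat.{w})] {R₀ : Sheaf J CommRingCat.{w}}
  [HasSheafify J AddCommGrpCat.{w}] [J.WEqualsLocallyBijective AddCommGrpCat.{w}]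
  {A : C → Prop} [HasPullbacks C]

/-- An epimorphism between sheaves of modules satisfying base change on affine objects is
surjective on sections over affine objects. -/
theorem surjective_of_epi_of_isBCOn (hAD : AffData J R₀.obj A)
    {F N : SheafOfModules.{w} (ringSh R₀)} (π : F ⟶ N) [Epi π] (hF : IsBCOn A F)
    (hN : IsBCOn A N) (V : C) (hV : A V) : Function.Surjective (π.val.app (op V)).hom := by
  let G := SheafOfModules.forget (ringSh R₀) ⋙
    PresheafOfModules.evaluation (ringSh R₀).obj (op V)
  obtain ⟨hG⟩ := isColimit_sections_of_isBC hAD (colimit.isColimit (parallelPair π 0))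
    (fun k => by
      rcases k with _ | _
      · exact fun f hU hV => hF f hU hV
      · exact fun f hU hV => hN f hU hV) V hV
  haveI : PreservesColimit (parallelPair π 0) G :=
    preservesColimit_of_preserves_colimit_cocone (colimit.isColimit (parallelPair π 0)) hG
  have h0 : IsZero (cokernel (G.map π)) :=
    IsZero.of_iso (G.map_isZero (isZero_cokernel_of_epi π)) (PreservesCokernel.iso G π).symm
  have : Epi (G.map π) := Preadditive.epi_of_isZero_cokernel _ h0
  exact (ModuleCat.epi_iff_surjective _).mp this

/-- the value over `V` of the tautological section of a free module -/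
noncomputable def freeElt (I : Type w) (V : C) (i : I) :
    (SheafOfModules.free (R := ringSh R₀) I).val.obj (op V) :=
  (SheafOfModules.freeSection (R := ringSh R₀) i).val (op V)

/-- the sections of a free module over an affine object are spanned by the tautological
sections -/
theorem span_freeSection (hAD : AffData J R₀.obj A) (I : Type w) (V : C) (hV : A V) :
    Submodule.span ((ringSh R₀).obj.obj (op V))
      (Set.range (freeElt (R₀ := R₀) I V)) = ⊤ := by
  let G := SheafOfModules.forget (ringSh R₀) ⋙
    PresheafOfModules.evaluation (ringSh R₀).obj (op V)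
  obtain ⟨hG⟩ := isColimit_sections_of_isBC hAD
    (SheafOfModules.isColimitFreeCofan (R := ringSh R₀) I)
    (fun _ => fun f hU hV => isBCOn_unit (A := A) f hU hV) V hV
  let P : ModuleCat ((ringSh R₀).obj.obj (op V)) :=
    (SheafOfModules.free (R := ringSh R₀) I).val.obj (op V)
  let S : Submodule ((ringSh R₀).obj.obj (op V)) P := Submodule.span _
    (Set.range (freeElt (R₀ := R₀) I V))
  let q : (G.mapCocone (SheafOfModules.freeCofan (R := ringSh R₀) I)).pt ⟶
    ModuleCat.of _ (P ⧸ S) := ModuleCat.ofHom S.mkQ
  have hq : q = 0 := by
    refine hG.hom_ext fun ⟨i⟩ => ?_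
    refine Eq.trans ?_ comp_zero.symm
    ext
    change S.mkQ ((SheafOfModules.ιFree (R := ringSh R₀) i).val.app (op V)
      (1 : (ringSh R₀).obj.obj (op V))) = 0
    rw [Submodule.mkQ_apply, Submodule.Quotient.mk_eq_zero]
    refine Submodule.subset_span ⟨i, ?_⟩
    rfl
  rw [Submodule.eq_top_iff']
  intro x
  have := congrArg (fun φ : (G.mapCocone (SheafOfModules.freeCofan (R := ringSh R₀) I)).pt ⟶
    ModuleCat.of _ (P ⧸ S) => φ.hom x) hq
  exact (Submodule.Quotient.mk_eq_zero S).mp this

theorem finite_free_sections (hAD : AffData J R₀.obj A) (I : Type w) [Finite I] (V : C)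
    (hV : A V) : Module.Finite ((ringSh R₀).obj.obj (op V))
      ((SheafOfModules.free (R := ringSh R₀) I).val.obj (op V)) := by
  refine ⟨⟨(Set.finite_range (freeElt (R₀ := R₀) I V)).toFinset, ?_⟩⟩
  rw [Set.Finite.coe_toFinset]
  exact span_freeSection hAD I V hV

end Groth.Agent.H51.QC
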